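import Groth.Agent.SubtrLib.Basic
import Groth.Agent.RedSub.Basic

/-!
# S-subtrusive morphisms over valuation rings
-/

set_option autoImplicit false
set_option linter.style.haveILetI false

universe u

open CategoryTheory CategoryTheory.Limits AlgebraicGeometry Topology IsLocalRing TopologicalSpace

namespace Groth.Agent.SubtrLib

theorem univSSubtrusive_self {X Y : Scheme.{u}} {f : X ⟶ Y} (h : Subtr.UnivSSubtrusive f) :
    Subtr.IsSSubtrusive f :=
  MorphismProperty.universally_le (fun _ _ f => Subtr.IsSSubtrusive f) _ h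

theorem univSSubtrusive_of_flat_surjective {X Y : Scheme.{u}} (f : X ⟶ Y) [Flat f] [Surjective f] :
    Subtr.UnivSSubtrusive f := by
  intro X' Y' i₁ i₂ f' h y y' hy
  haveI : Flat f' := MorphismProperty.of_isPullback h.flip inferInstance
  haveI : Surjective f' := MorphismProperty.of_isPullback h.flip inferInstance
  obtain ⟨x, rfl⟩ := f'.surjective y
  obtain ⟨x', h1, h2⟩ := Flat.generalizingMap f' hy
  exact ⟨x, x', h1, rfl, h2⟩

theorem univSSubtrusive_of_comp {W X Y : Scheme.{u}} (g : W ⟶ X) (f : X ⟶ Y)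
    (h : Subtr.UnivSSubtrusive (g ≫ f)) : Subtr.UnivSSubtrusive f := by
  intro X' Y' i₁ i₂ f' sq y y' hy
  have big := (IsPullback.of_hasPullback i₁ g).flip.paste_vert sq.flip
  obtain ⟨w, w', h1, h2, h3⟩ := h _ _ _ big.flip hy
  exact ⟨pullback.fst i₁ g w, pullback.fst i₁ g w', h1.map (pullback.fst i₁ g).continuous, h2, h3⟩

theorem closedPoint_and_gen {V W : Type u} [CommRing V] [IsDomain V] [IsLocalRing V] [CommRing W]
    [IsDomain W] [IsLocalRing W] (c : Spec (CommRingCat.of W) ⟶ Spec (CommRingCat.of V))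
    (hs : Function.Surjective c) :
    c (closedPoint W) = closedPoint V ∧ c (gen W) = gen V := by
  obtain ⟨w, hw⟩ := hs (closedPoint V)
  obtain ⟨w', hw'⟩ := hs (gen V)
  have h1 : w ⤳ closedPoint W := IsLocalRing.specializes_closedPoint w
  have h2 := (h1.map c.continuous)
  have h3 := ((gen_specializes w').map c.continuous)
  rw [hw] at h2
  rw [hw'] at h3
  exact ⟨eq_closedPoint_of_specializes h2, eq_gen_of_specializes h3⟩

theorem surjective_of_closedPoint_gen {V W : Type u} [CommRing V] [IsDomain V] [ValuationRing V]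
    [CommRing W] [IsDomain W] [IsLocalRing W]
    (c : Spec (CommRingCat.of W) ⟶ Spec (CommRingCat.of V))
    (h₁ : c (closedPoint W) = closedPoint V) (h₂ : c (gen W) = gen V) : Surjective c := by
  obtain ⟨φ, rfl⟩ := Spec.map_surjective c
  have h₁' : PrimeSpectrum.comap φ.hom (closedPoint W) = closedPoint V := h₁
  have h₂' : Ideal.comap φ.hom (⊥ : Ideal W) = ⊥ := congrArg PrimeSpectrum.asIdeal h₂
  haveI : IsLocalHom φ.hom := ⟨fun a ha => by
    by_contra h
    have ha' : a ∈ (closedPoint V).asIdeal := (mem_maximalIdeal _).2 h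
    rw [← h₁'] at ha'
    exact (mem_maximalIdeal _).1 ha' ha⟩
  have hinj : Function.Injective φ.hom := (injective_iff_map_eq_zero _).2 fun a ha => by
    have : a ∈ (⊥ : Ideal V) := by rw [← h₂']; exact ha
    exact this
  exact ⟨comap_surjective φ.hom hinj⟩

/-- A reduced scheme over a valuation ring whose nonempty opens meet the generic fibre is flat. -/
theorem flat_of_generic {V : Type u} [CommRing V] [IsDomain V] [ValuationRing V] {Z : Scheme.{u}}
    [IsReduced Z] (p : Z ⟶ Spec (CommRingCat.of V))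
    (h : ∀ U : Z.Opens, U ≠ ⊥ → ∃ z ∈ U, p z = gen V) : Flat p := by
  rw [HasRingHomProperty.iff_of_source_openCover (P := @Flat) Z.affineCover]
  intro i
  let φ := (Scheme.ΓSpecIso (CommRingCat.of V)).inv ≫ (Z.affineCover.f i ≫ p).appTop
  suffices hφ : φ.hom.Flat by
    have e : (Z.affineCover.f i ≫ p).appTop =
        (Scheme.ΓSpecIso (CommRingCat.of V)).hom ≫ φ := (Iso.hom_inv_id_assoc _ _).symm
    rw [e, CommRingCat.hom_comp]
    exact RingHom.Flat.comp (RingHom.Flat.of_bijective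
      (ConcreteCategory.bijective_of_isIso (Scheme.ΓSpecIso (CommRingCat.of V)).hom)) hφ
  letI : Algebra V Γ(Z.affineCover.X i, ⊤) := φ.hom.toAlgebra
  show Module.Flat V Γ(Z.affineCover.X i, ⊤)
  haveI : IsReduced (Z.affineCover.X i) := isReduced_of_isOpenImmersion (Z.affineCover.f i)
  rw [Module.Flat.flat_iff_torsion_eq_bot_of_isBezout, eq_bot_iff]
  rintro s ⟨⟨a, ha⟩, has⟩
  have ha0 : a ≠ 0 := nonZeroDivisors.ne_zero ha
  have has' : φ a * s = 0 := has
  refine eq_zero_of_basicOpen_eq_bot (X := Z.affineCover.X i) (U := ⊤) s ?_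
  by_contra hne
  obtain ⟨x, hx⟩ : ∃ x, x ∈ (Z.affineCover.X i).basicOpen s := by
    by_contra hx
    exact hne (bot_unique fun x hx' => hx ⟨x, hx'⟩)
  let U' := Z.affineCover.f i ''ᵁ ((Z.affineCover.X i).basicOpen s)
  obtain ⟨z, ⟨w, hw, rfl⟩, hz⟩ := h U' (fun hbot => by
    have hxU : Z.affineCover.f i x ∈ U' := ⟨x, hx, rfl⟩
    rw [hbot] at hxU
    exact hxU)
  have hwa : w ∈ (Z.affineCover.X i).basicOpen (φ a) := by
    change w ∈ (Z.affineCover.X i).basicOpen
      ((Z.affineCover.f i ≫ p).appTop ((Scheme.ΓSpecIso (CommRingCat.of V)).inv a))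
    rw [← Scheme.preimage_basicOpen_top, basicOpen_eq_of_affine]
    change a ∉ ((Z.affineCover.f i ≫ p) w : PrimeSpectrum V).asIdeal
    have hz' : (((Z.affineCover.f i ≫ p) w : Spec (CommRingCat.of V)) : PrimeSpectrum V).asIdeal = ⊥ :=
      congrArg PrimeSpectrum.asIdeal hz
    exact fun h0 => ha0 (hz'.le h0)
  have : w ∈ (Z.affineCover.X i).basicOpen (φ a * s) := by
    rw [Scheme.basicOpen_mul]; exact ⟨hwa, hw⟩
  rw [has', Scheme.basicOpen_zero] at this
  exact this

/-- Lifting of pairs over a valuation ring. -/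
theorem tfae (V : Type u) [CommRing V] [IsDomain V] [ValuationRing V]
    {X : Scheme.{u}} (f : X ⟶ Spec (CommRingCat.of V)) :
    List.TFAE [
      Subtr.UnivSSubtrusive f,
      Subtr.IsSSubtrusive f,
      ∀ y : Spec (CommRingCat.of V), ∃ x : X,
        x ∈ closure (f ⁻¹' {(⟨⊥, Ideal.isPrime_bot⟩ : PrimeSpectrum V)}) ∧ f x = y,
      ∃ x x' : X, x' ⤳ x ∧ f x = IsLocalRing.closedPoint V ∧
        f x' = (⟨⊥, Ideal.isPrime_bot⟩ : PrimeSpectrum V),
      ∃ (W : Type u) (_ : CommRing W) (_ : IsDomain W) (_ : ValuationRing W)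
        (g : Spec (CommRingCat.of W) ⟶ X), Surjective (g ≫ f),
      ∃ (Z : Scheme.{u}) (i : Z ⟶ X), IsClosedImmersion i ∧ Flat (i ≫ f) ∧ Surjective (i ≫ f)] := by
  tfae_have 1 → 2 := univSSubtrusive_self
  tfae_have 2 → 3 := fun h y => by
    obtain ⟨x, x', hx, h1, h2⟩ := h (gen_specializes y)
    exact ⟨x, closure_mono (Set.singleton_subset_iff.2 (show x' ∈ f ⁻¹' {gen V} from h2))
      hx.mem_closure, h1⟩
  tfae_have 3 → 4 := fun h => by
    obtain ⟨x, hx, hfx⟩ := h (closedPoint V)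
    obtain ⟨x', h1, h2⟩ := exists_specializes_fibre f hx
    exact ⟨x, x', h1, hfx, h2⟩
  tfae_have 4 → 5 := fun ⟨x, x', hx, h1, h2⟩ => by
    obtain ⟨W, i₁, i₂, i₃, g, hg₁, hg₂⟩ := exists_valuationRing_of_specializes hx
    exact ⟨W, i₁, i₂, i₃, g, surjective_of_closedPoint_gen _
      (by rw [Scheme.Hom.comp_apply, hg₁, h1]) (by rw [Scheme.Hom.comp_apply, hg₂, h2])⟩
  tfae_have 5 → 6 := fun ⟨W, _, _, _, g, hg⟩ => by
    obtain ⟨-, h2⟩ := closedPoint_and_gen (g ≫ f) hg.surj
    let C : Closeds X := ⟨closure {g (gen W)}, isClosed_closure⟩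
    let I := Scheme.IdealSheafData.vanishingIdeal C
    have hr : Set.range I.subschemeι = closure {g (gen W)} :=
      RedSub.range_vanishingIdeal_subschemeι C
    refine ⟨I.subscheme, I.subschemeι, inferInstance, flat_of_generic _ fun U hU => ?_, ⟨fun y => ?_⟩⟩
    · obtain ⟨z, hz⟩ : ∃ z, z ∈ U := by
        by_contra hne
        exact hU (bot_unique fun x hx => hne ⟨x, hx⟩)
      obtain ⟨z₀, hz₀⟩ : g (gen W) ∈ Set.range I.subschemeι := by
        rw [hr]; exact subset_closure rfl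
      refine ⟨z₀, ?_, by rw [Scheme.Hom.comp_apply, hz₀, ← Scheme.Hom.comp_apply, h2]⟩
      refine (I.subschemeι.isEmbedding.isInducing.specializes_iff.1 ?_).mem_open U.2 hz
      rw [hz₀]
      exact specializes_iff_mem_closure.2 (hr.le ⟨z, rfl⟩)
    · obtain ⟨w, hw⟩ := hg.surj y
      obtain ⟨z, hz⟩ : g w ∈ Set.range I.subschemeι := by
        rw [hr]
        exact ((gen_specializes w).map g.continuous).mem_closure
      exact ⟨z, by rw [Scheme.Hom.comp_apply, hz, ← Scheme.Hom.comp_apply, hw]⟩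
  tfae_have 6 → 1 := fun ⟨Z, i, _, h1, h2⟩ => by
    haveI := h1
    haveI := h2
    exact univSSubtrusive_of_comp i f (univSSubtrusive_of_flat_surjective (i ≫ f))
  tfae_finish

theorem univSSubtrusive_iff_forall_valuationRing {X Y : Scheme.{u}} (f : X ⟶ Y) :
    Subtr.UnivSSubtrusive f ↔
      ∀ (V : Type u) [CommRing V] [IsDomain V] [ValuationRing V] (g : Spec (CommRingCat.of V) ⟶ Y),
        Subtr.IsSSubtrusive (pullback.snd f g) := by
  refine ⟨fun h V _ _ _ g => h _ _ _ (IsPullback.of_hasPullback f g).flip, ?_⟩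
  intro h X' Y' i₁ i₂ f' sq y y' hy
  obtain ⟨V, _, _, _, g, hg1, hg2⟩ := exists_valuationRing_of_specializes hy
  obtain ⟨x, x', hx, h1, h2⟩ := h V (g ≫ i₂) (gen_specializes (closedPoint V))
  let l : pullback f (g ≫ i₂) ⟶ X' := sq.lift (pullback.snd f (g ≫ i₂) ≫ g) (pullback.fst _ _) (by
    rw [Category.assoc]; exact pullback.condition.symm)
  have hl : l ≫ f' = pullback.snd f (g ≫ i₂) ≫ g := sq.lift_fst _ _ _
  refine ⟨l x, l x', hx.map l.continuous, ?_, ?_⟩
  · rw [← Scheme.Hom.comp_apply, hl, Scheme.Hom.comp_apply, h1, hg1]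
  · rw [← Scheme.Hom.comp_apply, hl, Scheme.Hom.comp_apply, h2, hg2]

theorem univSSubtrusive_iff_exists_lift {X Y : Scheme.{u}} (f : X ⟶ Y) :
    Subtr.UnivSSubtrusive f ↔
      ∀ (V : Type u) [CommRing V] [IsDomain V] [ValuationRing V] (g : Spec (CommRingCat.of V) ⟶ Y),
        ∃ (V' : Type u) (_ : CommRing V') (_ : IsDomain V') (_ : ValuationRing V')
          (a : Spec (CommRingCat.of V') ⟶ X) (b : Spec (CommRingCat.of V') ⟶ Spec (CommRingCat.of V)),
          Surjective b ∧ a ≫ f = b ≫ g := by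
  rw [univSSubtrusive_iff_forall_valuationRing]
  refine ⟨fun h V _ _ _ g => ?_, fun h V _ _ _ g => ?_⟩
  · obtain ⟨W, i₁, i₂, i₃, l, hl⟩ :=
      ((tfae V (pullback.snd f g)).out 1 4 rfl rfl).1 (h V g)
    exact ⟨W, i₁, i₂, i₃, l ≫ pullback.fst f g, l ≫ pullback.snd f g, hl, by
      rw [Category.assoc, Category.assoc, pullback.condition]⟩
  · obtain ⟨W, i₁, i₂, i₃, a, b, hb, hab⟩ := h V g
    refine ((tfae V (pullback.snd f g)).out 1 4 rfl rfl).2 ⟨W, i₁, i₂, i₃, pullback.lift a b hab, ?_⟩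
    rw [pullback.lift_snd]
    exact hb

end Groth.Agent.SubtrLib
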