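import Groth.Agent.SubtrLib.Core
import Groth.Agent.RatMapExt.Valuative
import Groth.Agent.S14766
import Groth.Agent.FDesc.ProConsImage
import Groth.Prelude.Def_SGA1

/-!
# Universally submersive and universally S-subtrusive quasi-compact morphisms
-/

set_option autoImplicit false
set_option linter.style.haveILetI false

universe u

open CategoryTheory CategoryTheory.Limits AlgebraicGeometry Topology IsLocalRing

namespace Groth.Agent.SubtrLib

variable {X Y : Scheme.{u}} (f : X ⟶ Y)

theorem isQuotientMap_of_specialization {X' Y' : Scheme.{u}} (f' : X' ⟶ Y') [QuasiCompact f']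
    [Surjective f']
    (h : ∀ T : Set Y', IsClosed (f' ⁻¹' T) → ∀ y' y : Y', y' ∈ T → y' ⤳ y → y ∈ T) :
    IsQuotientMap f' := by
  refine ⟨isCoinducing_iff_isClosed.2 fun T =>
    ⟨fun hT => ?_, fun hT => hT.preimage f'.continuous⟩, f'.surjective⟩
  have hT' : ProCons.IsProConstructible T := by
    rw [← Set.image_preimage_eq T f'.surjective]
    exact FDesc.ProConsImage.isProConstructible_image f' (LimTop.isProConstructible_of_isClosed hT)
  refine closure_subset_iff_isClosed.1 fun y hy => ?_
  obtain ⟨y', hy', hs⟩ := LimTop.exists_specializes_of_mem_closure hT' hy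
  exact h T hT y' y hy' hs

theorem univSubmersive_of_univSSubtrusive [QuasiCompact f] (hf : Subtr.UnivSSubtrusive f) :
    SGA1.UnivSubmersive f := by
  intro X' Y' i₁ i₂ f' sq
  haveI : QuasiCompact f' := MorphismProperty.of_isPullback sq.flip inferInstance
  have h := hf _ _ _ sq
  haveI : Surjective f' := ⟨fun y => by obtain ⟨x, _, _, hx, _⟩ := h (specializes_refl y); exact ⟨x, hx⟩⟩
  refine isQuotientMap_of_specialization f' fun T hT y' y hy' hs => ?_
  obtain ⟨x, x', hx, rfl, rfl⟩ := h hs
  exact hx.mem_closed hT hy'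

theorem univSubmersive_of_forall_valuationRing [QuasiCompact f]
    (hq : ∀ (V : Type u) [CommRing V] [IsDomain V] [ValuationRing V]
      (g : Spec (CommRingCat.of V) ⟶ Y), IsQuotientMap (pullback.snd f g)) :
    SGA1.UnivSubmersive f := by
  intro X' Y' i₁ i₂ f' sq
  haveI : QuasiCompact f' := MorphismProperty.of_isPullback sq.flip inferInstance
  have hq' : ∀ (V : Type u) [CommRing V] [IsDomain V] [ValuationRing V]
      (g : Spec (CommRingCat.of V) ⟶ Y'), IsQuotientMap (pullback.snd f' g) := by
    intro V _ _ _ g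
    have big := (IsPullback.of_hasPullback f' g).flip.paste_vert sq
    have e := big.flip.isoPullback_hom_snd
    rw [← e]
    exact (hq V (g ≫ i₂)).comp big.flip.isoPullback.hom.homeomorph.isQuotientMap
  haveI : Surjective f' := ⟨fun y => by
    obtain ⟨V, _, _, _, g, hg, -⟩ := exists_valuationRing_of_specializes (specializes_refl y)
    obtain ⟨z, hz⟩ := (hq' V g).surjective (closedPoint V)
    exact ⟨pullback.fst f' g z, by
      rw [← Scheme.Hom.comp_apply, pullback.condition, Scheme.Hom.comp_apply, hz, hg]⟩⟩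
  refine isQuotientMap_of_specialization f' fun T hT y' y hy' hs => ?_
  obtain ⟨V, _, _, _, g, hg, hg'⟩ := exists_valuationRing_of_specializes hs
  have hc : IsClosed (g ⁻¹' T) := by
    rw [← (hq' V g).isCoinducing.isClosed_preimage]
    have : pullback.snd f' g ⁻¹' (g ⁻¹' T) = pullback.fst f' g ⁻¹' (f' ⁻¹' T) := by
      ext z
      simp only [Set.mem_preimage, ← Scheme.Hom.comp_apply, pullback.condition]
    rw [this]
    exact hT.preimage (pullback.fst f' g).continuous
  have := (gen_specializes (closedPoint V : Spec (CommRingCat.of V))).mem_closed hc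
    (show g (gen V) ∈ T by rw [hg']; exact hy')
  exact hg ▸ this

theorem surjective_of_forall_dvr
    (hD : ∀ (D : Type u) [CommRing D] [IsDomain D] [IsDiscreteValuationRing D]
      (g : Spec (CommRingCat.of D) ⟶ Y), Subtr.IsSSubtrusive (pullback.snd f g)) :
    Surjective f := ⟨fun y => by
  let g : Spec (CommRingCat.of (PowerSeries (Y.residueField y))) ⟶ Y :=
    Spec.map (CommRingCat.ofHom (PowerSeries.C : Y.residueField y →+* PowerSeries (Y.residueField y))) ≫
      Y.fromSpecResidueField y
  obtain ⟨z, _, -, hz, -⟩ := hD (PowerSeries (Y.residueField y)) g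
    (specializes_refl (closedPoint (PowerSeries (Y.residueField y))))
  refine ⟨pullback.fst f g z, ?_⟩
  rw [← Scheme.Hom.comp_apply, pullback.condition, Scheme.Hom.comp_apply, hz, Scheme.Hom.comp_apply]
  exact Scheme.fromSpecResidueField_apply y _⟩

/-- Over a locally Noetherian base, discrete valuation rings detect universal S-subtrusiveness. -/
theorem univSSubtrusive_of_forall_dvr [IsLocallyNoetherian Y] [QuasiCompact f]
    (hD : ∀ (D : Type u) [CommRing D] [IsDomain D] [IsDiscreteValuationRing D]
      (g : Spec (CommRingCat.of D) ⟶ Y), Subtr.IsSSubtrusive (pullback.snd f g)) :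
    Subtr.UnivSSubtrusive f := by
  refine univSSubtrusive_of_forall_fg f ?_
  intro R V _ _ _ _ _ ι hι A hA
  haveI := hι
  haveI : IsLocallyNoetherian (Spec (CommRingCat.of R)) := isLocallyNoetherian_of_isOpenImmersion ι
  haveI : IsNoetherianRing R :=
    isLocallyNoetherian_Spec (R := CommRingCat.of R) |>.1 inferInstance
  haveI : Algebra.FiniteType R A := (Subalgebra.fg_iff_finiteType A).1 hA
  haveI : IsNoetherianRing A := Algebra.FiniteType.isNoetherianRing R A
  let gA := Spec.map (CommRingCat.ofHom (algebraMap R A)) ≫ ι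
  let q := Spec.map (CommRingCat.ofHom A.val.toRingHom) (closedPoint V)
  let η := Spec.map (CommRingCat.ofHom A.val.toRingHom) (gen V)
  have hs : η ⤳ q := (gen_specializes _).map (Spec.map (CommRingCat.ofHom A.val.toRingHom)).continuous
  by_cases hne : η = q
  · haveI := surjective_of_forall_dvr f hD
    haveI : Surjective (pullback.snd f gA) := MorphismProperty.pullback_snd _ _ inferInstance
    obtain ⟨z, hz⟩ := (pullback.snd f gA).surjective q
    exact ⟨z, z, specializes_refl z, hz, hz.trans hne.symm⟩
  haveI : IsLocallyNoetherian (Spec (CommRingCat.of A)) :=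
    isLocallyNoetherian_Spec (R := CommRingCat.of A) |>.2 inferInstance
  obtain ⟨D, _, _, _, u, hu, hu'⟩ := RatMapExt.exists_dvr_of_specializes hs hne
  have hgen : u (gen D) = η := by
    have := hu' (closedPoint (FractionRing D))
    rwa [Scheme.Hom.comp_apply, range_fracMap] at this
  obtain ⟨z, z', hzz, hz, hz'⟩ := hD D (u ≫ gA) (gen_specializes (closedPoint D))
  let m : pullback f (u ≫ gA) ⟶ pullback f gA := pullback.lift (pullback.fst _ _)
    (pullback.snd _ _ ≫ u) (by rw [Category.assoc]; exact pullback.condition)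
  have hm : m ≫ pullback.snd f gA = pullback.snd f (u ≫ gA) ≫ u := pullback.lift_snd _ _ _
  refine ⟨m z', m z, hzz.map m.continuous, ?_, ?_⟩
  · rw [← Scheme.Hom.comp_apply, hm, Scheme.Hom.comp_apply, hz, hu]
  · rw [← Scheme.Hom.comp_apply, hm, Scheme.Hom.comp_apply, hz', hgen]

theorem univSSubtrusive_of_univSubmersive [IsLocallyNoetherian Y] [QuasiCompact f]
    (h : SGA1.UnivSubmersive f) : Subtr.UnivSSubtrusive f := by
  refine univSSubtrusive_of_forall_dvr f ?_
  intro D _ _ _ g
  exact (Groth.Agent.S14766.result D (pullback.snd f g)).1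
    (h _ _ _ (IsPullback.of_hasPullback f g).flip)

theorem univSSubtrusive_of_forall_affineSpace [QuasiCompact f]
    (h : ∀ n : ℕ, 0 < n →
      Subtr.IsSSubtrusive (pullback.snd f (AffineSpace (ULift.{u} (Fin n)) Y ↘ Y))) :
    Subtr.UnivSSubtrusive f := by
  refine univSSubtrusive_of_forall_fg f ?_
  intro R V _ _ _ _ _ ι hι A hA
  haveI := hι
  haveI : Algebra.FiniteType R A := (Subalgebra.fg_iff_finiteType A).1 hA
  obtain ⟨m, π₀, hπ₀⟩ := Algebra.FiniteType.iff_quotient_mvPolynomial''.1 ‹Algebra.FiniteType R A›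
  let n := ULift.{u} (Fin (m + 1))
  let π : MvPolynomial n R →ₐ[R] A := MvPolynomial.aeval fun i =>
    if hi : i.down.val < m then π₀ (MvPolynomial.X ⟨i.down.val, hi⟩) else 0
  have hπ : Function.Surjective π := by
    have e : π.comp (MvPolynomial.rename fun j : Fin m => ULift.up j.castSucc) = π₀ :=
      MvPolynomial.algHom_ext fun j => by simp [π]
    intro a
    obtain ⟨p, rfl⟩ := hπ₀ a
    exact ⟨_, DFunLike.congr_fun e p⟩
  haveI : IsOpenImmersion (AffineSpace.map n ι) :=
    MorphismProperty.of_isPullback (AffineSpace.isPullback_map (n := n) ι).flip inferInstance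
  haveI : IsClosedImmersion (Spec.map (CommRingCat.ofHom π.toRingHom)) :=
    IsClosedImmersion.spec_of_surjective _ hπ
  let i := Spec.map (CommRingCat.ofHom π.toRingHom) ≫ (AffineSpace.SpecIso n (CommRingCat.of R)).inv ≫
    AffineSpace.map n ι
  let gA := Spec.map (CommRingCat.ofHom (algebraMap R A)) ≫ ι
  have hi : i ≫ (AffineSpace n Y ↘ Y) = gA := by
    simp only [i, gA, Category.assoc, AffineSpace.map_over]
    rw [AffineSpace.SpecIso_inv_over_assoc, ← Spec.map_comp_assoc]
    congr 2
    exact CommRingCat.hom_ext π.comp_algebraMap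
  let q := Spec.map (CommRingCat.ofHom A.val.toRingHom) (closedPoint V)
  let η := Spec.map (CommRingCat.ofHom A.val.toRingHom) (gen V)
  have hs : η ⤳ q := (gen_specializes _).map (Spec.map (CommRingCat.ofHom A.val.toRingHom)).continuous
  obtain ⟨z, z', hzz, hz, hz'⟩ := h (m + 1) (Nat.succ_pos m) (hs.map i.continuous)
  let s := pullback.snd f (AffineSpace n Y ↘ Y)
  obtain ⟨w, hw, hw₂⟩ := Scheme.Pullback.exists_preimage_pullback (f := s) (g := i) z q hz
  obtain ⟨w', hw', hw₂'⟩ := Scheme.Pullback.exists_preimage_pullback (f := s) (g := i) z' η hz'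
  haveI : IsPreimmersion (pullback.fst s i) := MorphismProperty.pullback_fst _ _ inferInstance
  have hww : w' ⤳ w := (pullback.fst s i).isEmbedding.isInducing.specializes_iff.1 (by
    rw [hw, hw']; exact hzz)
  let l : pullback s i ⟶ pullback f gA := pullback.lift
    (pullback.fst s i ≫ pullback.fst f (AffineSpace n Y ↘ Y)) (pullback.snd s i) (by
      rw [Category.assoc, pullback.condition (f := f), ← hi]
      exact pullback.condition_assoc _)
  have hl : l ≫ pullback.snd f gA = pullback.snd s i := pullback.lift_snd _ _ _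
  refine ⟨l w', l w, hww.map l.continuous, ?_, ?_⟩
  · rw [← Scheme.Hom.comp_apply, hl, hw₂]
  · rw [← Scheme.Hom.comp_apply, hl, hw₂']

end Groth.Agent.SubtrLib
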