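import Mathlib
import Groth.Prelude.Def_W4c2submetdescSubtr
import Groth.Prelude.Def_ProCons
import Groth.Agent.SchPoints.Basic
import Groth.Agent.LimTop.Closure
import Groth.Agent.FDesc.ProConsImage

/-!
# S-subtrusive morphisms: valuation rings and lifting of pairs
-/

set_option autoImplicit false
set_option linter.style.haveILetI false

universe u

open CategoryTheory CategoryTheory.Limits AlgebraicGeometry Topology IsLocalRing

namespace Groth.Agent.SubtrLib

theorem isProConstructible_singleton {Y : Scheme.{u}} (y : Y) :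
    ProCons.IsProConstructible ({y} : Set Y) := by
  refine FDesc.ProConsImage.isProConstructible_of_isClosed_cons fun U hU => ?_
  haveI : IsAffine U.toScheme := hU
  rw [← @isOpen_compl_iff _ _ (constructibleTopology U.toScheme),
    @isOpen_iff_forall_mem_open _ (constructibleTopology U.toScheme)]
  intro z hz
  by_cases hy : ∃ p : U.toScheme, U.ι p = y
  · obtain ⟨p, hp⟩ := hy
    have hzp : z ≠ p := fun h => hz (by rw [h]; exact hp)
    have huniq : ∀ w : U.toScheme, U.ι w = y → w = p := fun w hw =>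
      U.ι.isOpenEmbedding.injective (hw.trans hp.symm)
    obtain ⟨W, hW, hWs⟩ := exists_isOpen_xor_mem hzp
    rcases hWs with ⟨hzW, hpW⟩ | ⟨hpW, hzW⟩
    · obtain ⟨Q, ⟨hQ₁, hQ₂⟩, hzQ, hQW⟩ :=
        PrespectralSpace.isTopologicalBasis.exists_subset_of_mem_open hzW hW
      exact ⟨Q, fun w hw hwy => hpW (huniq w hwy ▸ hQW hw),
        hQ₂.isOpen_constructibleTopology_of_isOpen hQ₁, hzQ⟩
    · obtain ⟨Q, ⟨hQ₁, hQ₂⟩, hpQ, hQW⟩ :=
        PrespectralSpace.isTopologicalBasis.exists_subset_of_mem_open hpW hW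
      refine ⟨Qᶜ, fun w hw hwy => hw (huniq w hwy ▸ hpQ), ?_, fun h => hzW (hQW h)⟩
      exact IsCompact.isOpen_constructibleTopology_of_isClosed (by rwa [compl_compl])
        hQ₁.isClosed_compl
  · exact ⟨Set.univ, fun w _ hwy => hy ⟨w, hwy⟩, @isOpen_univ _ (constructibleTopology _), trivial⟩

theorem exists_specializes_fibre {X Y : Scheme.{u}} (f : X ⟶ Y) {x : X} {y' : Y}
    (h : x ∈ closure (f ⁻¹' {y'})) : ∃ x' : X, x' ⤳ x ∧ f x' = y' := by
  obtain ⟨x', h1, h2⟩ := LimTop.exists_specializes_of_mem_closure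
    (LimTop.isProConstructible_preimage f (isProConstructible_singleton y')) h
  exact ⟨x', h2, h1⟩

/-- The generic point of the spectrum of a domain. -/
abbrev gen (V : Type u) [CommRing V] [IsDomain V] : Spec (CommRingCat.of V) :=
  (⟨⊥, Ideal.isPrime_bot⟩ : PrimeSpectrum V)

theorem gen_specializes {V : Type u} [CommRing V] [IsDomain V] (z : Spec (CommRingCat.of V)) :
    gen V ⤳ z :=
  (PrimeSpectrum.le_iff_specializes (gen V : PrimeSpectrum V) z).1 bot_le

theorem eq_gen_of_specializes {V : Type u} [CommRing V] [IsDomain V] {z : Spec (CommRingCat.of V)}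
    (h : z ⤳ gen V) : z = gen V :=
  PrimeSpectrum.ext (le_bot_iff.1 ((PrimeSpectrum.le_iff_specializes z (gen V : PrimeSpectrum V)).2 h))

theorem eq_closedPoint_of_specializes {V : Type u} [CommRing V] [IsLocalRing V]
    {z : Spec (CommRingCat.of V)} (h : closedPoint V ⤳ z) : z = closedPoint V :=
  ((PrimeSpectrum.isClosed_singleton_iff_isMaximal _).2 (maximalIdeal.isMaximal V)).closure_eq.le
    (specializes_iff_mem_closure.1 h)

theorem range_fracMap {V : Type u} [CommRing V] [IsDomain V]
    (t : Spec (CommRingCat.of (FractionRing V))) :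
    Spec.map (CommRingCat.ofHom (algebraMap V (FractionRing V))) t = gen V := by
  apply PrimeSpectrum.ext
  have ht : ∀ t' : PrimeSpectrum (FractionRing V), t'.asIdeal = ⊥ := fun t' =>
    (Ideal.eq_bot_or_top t'.asIdeal).resolve_right t'.2.ne_top
  change Ideal.comap (algebraMap V (FractionRing V)) (t : PrimeSpectrum (FractionRing V)).asIdeal = ⊥
  rw [ht]
  exact Ideal.comap_bot_of_injective _ (IsFractionRing.injective V (FractionRing V))

/-- Every specialisation is realised by a morphism from the spectrum of a valuation ring. -/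
theorem exists_valuationRing_of_specializes {Y : Scheme.{u}} {y' y : Y} (h : y' ⤳ y) :
    ∃ (V : Type u) (_ : CommRing V) (_ : IsDomain V) (_ : ValuationRing V)
      (g : Spec (CommRingCat.of V) ⟶ Y), g (closedPoint V) = y ∧ g (gen V) = y' := by
  let φ : Y.presheaf.stalk y ⟶ Y.residueField y' := Y.presheaf.stalkSpecializes h ≫ Y.residue y'
  obtain ⟨A, hA, hAloc⟩ := exists_factor_valuationRing φ.hom
  let ψ : Y.presheaf.stalk y ⟶ CommRingCat.of A := CommRingCat.ofHom (φ.hom.codRestrict _ hA)
  let g : Spec (CommRingCat.of A) ⟶ Y := Spec.map ψ ≫ Y.fromSpecStalk y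
  refine ⟨A, inferInstance, inferInstance, inferInstance, g, ?_, ?_⟩
  · have : Spec.map ψ (closedPoint A) = closedPoint (Y.presheaf.stalk y) :=
      comap_closedPoint (S := A) (φ.hom.codRestrict A.toSubring hA)
    simp only [g, Scheme.Hom.comp_apply, this, Scheme.fromSpecStalk_closedPoint]
  · have e : Spec.map (CommRingCat.ofHom A.subtype) ≫ g = Y.fromSpecResidueField y' := by
      rw [Scheme.fromSpecResidueField, ← Scheme.SpecMap_stalkSpecializes_fromSpecStalk h,
        ← Spec.map_comp_assoc, ← Spec.map_comp_assoc]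
      rfl
    let t : Spec (CommRingCat.of (Y.residueField y')) := closedPoint (Y.residueField y')
    have ht : Spec.map (CommRingCat.ofHom A.subtype) t = gen A := by
      apply PrimeSpectrum.ext
      change Ideal.comap A.subtype (maximalIdeal (Y.residueField y')) = ⊥
      rw [IsLocalRing.maximalIdeal_eq_bot]
      exact Ideal.comap_bot_of_injective _ Subtype.val_injective
    rw [← ht, ← Scheme.Hom.comp_apply, e]
    exact Scheme.fromSpecResidueField_apply y' _

/-- A local injective map out of a valuation ring is surjective on spectra. -/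
theorem comap_surjective {V W : Type u} [CommRing V] [IsDomain V] [ValuationRing V] [CommRing W]
    [IsDomain W] (φ : V →+* W) [IsLocalHom φ] (hφ : Function.Injective φ) :
    Function.Surjective (PrimeSpectrum.comap φ) := by
  intro p
  refine (PrimeSpectrum.mem_range_comap_iff φ).2 (le_antisymm (fun a ha => ?_) Ideal.le_comap_map)
  obtain ⟨p₀, hp₀, w, hw⟩ : ∃ p₀ ∈ p.asIdeal, ∃ w, φ a = φ p₀ * w := by
    suffices ∀ z ∈ p.asIdeal.map φ, ∃ p₀ ∈ p.asIdeal, ∃ w, z = φ p₀ * w from this _ ha
    intro z hz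
    induction hz using Submodule.span_induction with
    | mem z hz =>
      obtain ⟨c, hc, rfl⟩ := hz
      exact ⟨c, hc, 1, (mul_one _).symm⟩
    | zero => exact ⟨0, zero_mem _, 0, by simp⟩
    | add z₁ z₂ _ _ h₁ h₂ =>
      obtain ⟨p₁, hp₁, w₁, rfl⟩ := h₁
      obtain ⟨p₂, hp₂, w₂, rfl⟩ := h₂
      rcases ValuationRing.dvd_total p₁ p₂ with ⟨c, rfl⟩ | ⟨c, rfl⟩
      · exact ⟨p₁, hp₁, w₁ + φ c * w₂, by rw [map_mul]; ring⟩
      · exact ⟨p₂, hp₂, φ c * w₁ + w₂, by rw [map_mul]; ring⟩
    | smul r z _ h =>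
      obtain ⟨p₁, hp₁, w₁, rfl⟩ := h
      exact ⟨p₁, hp₁, r * w₁, by rw [smul_eq_mul]; ring⟩
  rcases ValuationRing.dvd_total p₀ a with ⟨c, rfl⟩ | ⟨c, rfl⟩
  · exact Ideal.mul_mem_right _ _ hp₀
  · by_cases hc : IsUnit c
    · exact (Ideal.mul_unit_mem_iff_mem _ hc).1 hp₀
    · by_cases ha0 : a = 0
      · rw [ha0]; exact zero_mem _
      exfalso
      refine hc (IsUnit.of_map φ c (IsUnit.of_mul_eq_one w ?_))
      have hz : φ a * (φ c * w - 1) = 0 := by
        rw [map_mul] at hw
        linear_combination -hw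
      rcases mul_eq_zero.1 hz with h | h
      · exact absurd ((map_eq_zero_iff φ hφ).1 h) ha0
      · exact sub_eq_zero.1 h

end Groth.Agent.SubtrLib
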