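import Groth.Agent.SubtrLib.Chain
import Groth.Agent.SubtrLib.Submersive
import Groth.Agent.LimTop.Descend

/-!
# Locally closed retrocompact sets descend along universally S-subtrusive quasi-compact morphisms
-/

set_option autoImplicit false
set_option linter.style.haveILetI false

universe u

open CategoryTheory CategoryTheory.Limits AlgebraicGeometry Topology

namespace Groth.Agent.SubtrLib

theorem isCompact_of_isClosed_cons {X : Scheme.{u}} [IsAffine X] {s : Set X}
    (hs : IsClosed[constructibleTopology X] s) : IsCompact s := by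
  have h1 : IsClosed (WithTopology.ofTopology ⁻¹' s : Set (WithConstructibleTopology X)) :=
    (WithTopology.isClosed_iff _).mpr hs
  have hcont : Continuous (WithTopology.ofTopology : WithConstructibleTopology X → X) := by
    refine PrespectralSpace.isTopologicalBasis.continuous_iff.mpr fun t ht ↦ ?_
    exact (WithTopology.isOpen_iff _).mpr (ht.2.isOpen_constructibleTopology_of_isOpen ht.1)
  have := h1.isCompact.image hcont
  rwa [Set.image_preimage_eq _ (WithTopology.ofTopology_surjective _)] at this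

theorem isRetrocompact_of_isProConstructible {X : Scheme.{u}} {E : Set X}
    (hE : ProCons.IsProConstructible E) : IsRetrocompact E := by
  intro W hWc hWo
  obtain ⟨s, hs, hW⟩ := isCompact_iff_finite_and_eq_biUnion_affineOpens.1
    (show IsCompact ((⟨W, hWo⟩ : X.Opens) : Set X) from hWc)
  have hW' : W = ⋃ i ∈ s, ((i : X.Opens) : Set X) := by
    have := congrArg (fun U : X.Opens => (U : Set X)) hW
    simpa using this
  rw [hW', Set.inter_iUnion₂]
  refine hs.isCompact_biUnion fun U _ => ?_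
  haveI : IsAffine (U : X.Opens).toScheme := U.2
  have h := (isCompact_of_isClosed_cons (LimTop.isClosed_cons_preimage (U : X.Opens).ι hE)).image
    (U : X.Opens).ι.continuous
  rwa [Set.image_preimage_eq_inter_range, Scheme.Opens.range_ι] at h

theorem isProConstructible_of_isLocallyClosed {X : Scheme.{u}} {E : Set X}
    (hl : IsLocallyClosed E) (hr : IsRetrocompact E) : ProCons.IsProConstructible E := by
  refine FDesc.ProConsImage.isProConstructible_of_isClosed_cons fun V hV => ?_
  haveI : IsAffine V.toScheme := hV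
  obtain ⟨U₀, C, hU₀, hC, rfl⟩ := hl
  have hK : IsCompact (V.ι ⁻¹' (U₀ ∩ C)) := by
    rw [V.ι.isOpenEmbedding.isInducing.isCompact_iff, Set.image_preimage_eq_inter_range,
      Scheme.Opens.range_ι]
    exact hr hV.isCompact V.2
  obtain ⟨Q, hQc, hKQ, hQU⟩ : ∃ Q : Set V.toScheme, (IsOpen Q ∧ IsCompact Q) ∧
      V.ι ⁻¹' (U₀ ∩ C) ⊆ Q ∧ Q ⊆ V.ι ⁻¹' U₀ := by
    have := PrespectralSpace.exists_isCompact_and_isOpen_between hK
      (hU₀.preimage V.ι.continuous) (Set.preimage_mono Set.inter_subset_left)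
    obtain ⟨Q, h1, h2, h3, h4⟩ := this
    exact ⟨Q, ⟨h2, h1⟩, h3, h4⟩
  have e : V.ι ⁻¹' (U₀ ∩ C) = Q ∩ V.ι ⁻¹' C :=
    Set.Subset.antisymm (fun z hz => ⟨hKQ hz, hz.2⟩) (fun z hz => ⟨hQU hz.1, hz.2⟩)
  rw [e]
  exact @IsClosed.inter _ _ _ (constructibleTopology V.toScheme)
    (LimTop.isClopen_cons_of_isConstructible (hQc.2.isConstructible hQc.1)).2
    (LimTop.isClosed_cons_preimage V.ι (LimTop.isProConstructible_of_isClosed hC))

theorem locallyClosed_retrocompact_iff {S' S : Scheme.{u}} (f : S' ⟶ S)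
    [QuasiCompact f] (hf : Subtr.UnivSSubtrusive f) (E : Set S) :
    (IsLocallyClosed E ∧ IsRetrocompact E) ↔
      (IsLocallyClosed (f ⁻¹' E) ∧ IsRetrocompact (f ⁻¹' E)) := by
  refine ⟨fun ⟨hl, hr⟩ => ⟨hl.preimage f.continuous, isRetrocompact_of_isProConstructible
    (LimTop.isProConstructible_preimage f (isProConstructible_of_isLocallyClosed hl hr))⟩,
    fun ⟨hl, hr⟩ => ?_⟩
  have hsurj : Function.Surjective f := fun y => by
    obtain ⟨x, _, _, hx, _⟩ := univSSubtrusive_self hf (specializes_refl y)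
    exact ⟨x, hx⟩
  have hE : ProCons.IsProConstructible E := by
    have := FDesc.ProConsImage.isProConstructible_image f (isProConstructible_of_isLocallyClosed hl hr)
    rwa [Set.image_preimage_eq E hsurj] at this
  refine ⟨?_, isRetrocompact_of_isProConstructible hE⟩
  let C := closure (f ⁻¹' E) \ f ⁻¹' E
  have hC : IsClosed C := by
    obtain ⟨U₀, C₀, hU₀, hC₀, he⟩ := hl
    have : C = closure (f ⁻¹' E) ∩ U₀ᶜ := by
      ext x
      refine ⟨fun hx => ⟨hx.1, fun hxU => hx.2 ?_⟩, fun hx => ⟨hx.1, fun hxE => hx.2 (he ▸ hxE).1⟩⟩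
      have hxC : x ∈ C₀ := closure_minimal (he ▸ Set.inter_subset_right) hC₀ hx.1
      rw [he]; exact ⟨hxU, hxC⟩
    rw [this]
    exact isClosed_closure.inter hU₀.isClosed_compl
  have hBC : closure E \ E = f '' C := by
    apply Set.Subset.antisymm
    · rintro y ⟨hy, hyE⟩
      obtain ⟨e, he, hey⟩ := LimTop.exists_specializes_of_mem_closure hE hy
      obtain ⟨x, x', hx, h1, h2⟩ := univSSubtrusive_self hf hey
      refine ⟨x, ⟨closure_mono (Set.singleton_subset_iff.2 (show x' ∈ f ⁻¹' E by show f x' ∈ E; rw [h2]; exact he))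
        hx.mem_closure, fun hxE => hyE ?_⟩, h1⟩
      rw [← h1]; exact hxE
    · rintro _ ⟨x, hx, rfl⟩
      exact ⟨f.continuous.closure_preimage_subset E hx.1, hx.2⟩
  have hB : ProCons.IsProConstructible (closure E \ E) := by
    rw [hBC]
    exact FDesc.ProConsImage.isProConstructible_image f (LimTop.isProConstructible_of_isClosed hC)
  have hclosed : IsClosed (closure E \ E) := by
    refine closure_subset_iff_isClosed.1 fun z hz => ?_
    obtain ⟨w, hw, hwz⟩ := LimTop.exists_specializes_of_mem_closure hB hz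
    refine ⟨closure_minimal (fun a ha => ha.1) isClosed_closure hz, fun hzE => hw.2 ?_⟩
    obtain ⟨e, he, hew⟩ := LimTop.exists_specializes_of_mem_closure hE hw.1
    obtain ⟨x, hmono, hx⟩ := exists_chain_lift f hf 2 ![e, w, z] (by
      intro i j hij
      fin_cases i <;> fin_cases j <;>
        first
          | exact specializes_rfl
          | exact hew
          | exact hwz
          | exact hew.trans hwz
          | simp at hij)
    have h0 : x 0 ∈ f ⁻¹' E := by
      show f (x 0) ∈ E
      rw [hx 0]; exact he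
    have h2 : x 2 ∈ f ⁻¹' E := by
      show f (x 2) ∈ E
      rw [hx 2]; exact hzE
    obtain ⟨U₀, C₀, hU₀, hC₀, heq⟩ := hl
    rw [heq] at h0 h2
    have h1 : x 1 ∈ f ⁻¹' E := by
      rw [heq]
      exact ⟨(hmono 1 2 (by decide)).mem_open hU₀ h2.1, (hmono 0 1 (by decide)).mem_closed hC₀ h0.2⟩
    have := hx 1
    rw [show (![e, w, z] : Fin 3 → S) 1 = w from rfl] at this
    rw [← this]; exact h1
  exact ⟨(closure E \ E)ᶜ, closure E, hclosed.isOpen_compl, isClosed_closure,
    Set.ext fun z => ⟨fun hz => ⟨fun h => h.2 hz, subset_closure hz⟩,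
      fun ⟨h1, h2⟩ => by_contra fun hne => h1 ⟨h2, hne⟩⟩⟩

theorem exists_component_lift {X : Scheme.{u}} [IsLocallyNoetherian X] (E : PreZeroHypercover.{u} X)
    [Finite E.I₀] [∀ i, QuasiCompact (E.f i)] (hE : SGA1.UnivSubmersive (Sigma.desc E.f)) (x : X) :
    ∃ (i : E.I₀) (ξ u : E.X i), ξ ⤳ u ∧ E.f i u = x ∧
      closure {E.f i ξ} ∈ irreducibleComponents ↥X := by
  haveI : QuasiCompact (Sigma.desc E.f) := by
    refine (quasiCompact_iff _).2 fun U hU hUc => ?_
    have : Sigma.desc E.f ⁻¹' U = ⋃ i, Sigma.ι E.X i '' (E.f i ⁻¹' U) := by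
      ext z
      obtain ⟨i, w, rfl⟩ : ∃ i w, Sigma.ι E.X i w = z := (sigmaOpenCover E.X).exists_eq z
      simp only [Set.mem_preimage, Set.mem_iUnion, Set.mem_image]
      rw [← Scheme.Hom.comp_apply, Sigma.ι_desc]
      refine ⟨fun h => ⟨i, w, h, rfl⟩, ?_⟩
      rintro ⟨j, v, hv, hvw⟩
      have := congrArg (Sigma.desc E.f) hvw
      rw [← Scheme.Hom.comp_apply, ← Scheme.Hom.comp_apply, Sigma.ι_desc, Sigma.ι_desc] at this
      exact this ▸ hv
    rw [this]
    exact isCompact_iUnion fun i =>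
      (((quasiCompact_iff _).1 inferInstance U hU hUc)).image (Sigma.ι E.X i).continuous
  obtain ⟨η, hη⟩ := QuasiSober.sober (S := irreducibleComponent x) isIrreducible_irreducibleComponent
    isClosed_irreducibleComponent
  obtain ⟨z, z', hzz, hz, hz'⟩ := univSSubtrusive_self (univSSubtrusive_of_univSubmersive _ hE)
    (hη.specializes mem_irreducibleComponent)
  obtain ⟨i, w, rfl⟩ : ∃ i w, Sigma.ι E.X i w = z := (sigmaOpenCover E.X).exists_eq z
  obtain ⟨w', rfl⟩ : z' ∈ Set.range (Sigma.ι E.X i) :=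
    hzz.mem_open (Sigma.ι E.X i).isOpenEmbedding.isOpen_range ⟨w, rfl⟩
  rw [← Scheme.Hom.comp_apply, Sigma.ι_desc] at hz hz'
  refine ⟨i, w', w, (Sigma.ι E.X i).isOpenEmbedding.isInducing.specializes_iff.1 hzz, hz, ?_⟩
  rw [hz', hη.def]
  exact irreducibleComponent_mem_irreducibleComponents x

end Groth.Agent.SubtrLib
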