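import Groth.Agent.SubtrLib.LocClosed
import Mathlib.AlgebraicGeometry.Morphisms.FinitePresentation

/-!
# Locally closed sets descend along universally S-subtrusive morphisms of finite presentation
-/

set_option autoImplicit false
set_option linter.style.haveILetI false

universe u

open CategoryTheory CategoryTheory.Limits AlgebraicGeometry Topology TopologicalSpace

namespace Groth.Agent.SubtrLib

theorem isLocallyClosed_of_preimage_affine {S' S : Scheme.{u}} [IsAffine S] (f : S' ⟶ S)
    [LocallyOfFinitePresentation f] [QuasiCompact f] (hf : Subtr.UnivSSubtrusive f) (E : Set S)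
    (hl : IsLocallyClosed (f ⁻¹' E)) : IsLocallyClosed E := by
  have hsurj : Function.Surjective f := fun y => by
    obtain ⟨x, _, _, hx, _⟩ := univSSubtrusive_self hf (specializes_refl y)
    exact ⟨x, hx⟩
  -- the constructible closure of `E`
  let F : Set S := ⋂₀ {T | IsConstructible T ∧ E ⊆ T}
  have hEF : E ⊆ F := fun e he => Set.mem_sInter.2 fun T hT => hT.2 he
  have hF : ProCons.IsProConstructible F := fun x =>
    ⟨Set.univ, isOpen_univ, Set.mem_univ x,
      (fun T => (Subtype.val ⁻¹' T : Set ↥(Set.univ : Set S))) '' {T | IsConstructible T ∧ E ⊆ T},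
      by
        rintro _ ⟨T, hT, rfl⟩
        exact ((isConstructible_preimage_iff_of_isOpenEmbedding isOpen_univ.isOpenEmbedding_subtypeVal
          (by simpa using isRetrocompact_univ) (by simp)).2 hT.1).isLocallyConstructible,
      by rw [Set.sInter_image]; simp [F, Set.preimage_iInter, Set.sInter_eq_biInter]⟩
  have hFW : f ⁻¹' F ⊆ closure (f ⁻¹' E) := by
    intro x hx
    by_contra hxW
    obtain ⟨V, hV, hxV, hVW⟩ :=
      exists_isAffineOpen_mem_and_subset (U := ⟨_, isClosed_closure.isOpen_compl⟩) hxW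
    have hVc : IsConstructible (f '' (V : Set S')) := by
      haveI : IsAffine V.toScheme := hV
      haveI : IsAffineHom (V.ι ≫ f) := isAffineHom_of_isAffine _
      have h := (V.ι ≫ f).isConstructible_image (s := Set.univ) IsConstructible.univ
      rwa [Set.image_univ, Scheme.Hom.comp_base, TopCat.coe_comp, Set.range_comp,
        Scheme.Opens.range_ι] at h
    have : F ⊆ (f '' (V : Set S'))ᶜ := Set.sInter_subset_of_mem ⟨hVc.compl, fun e he => by
      rintro ⟨v, hv, rfl⟩
      exact hVW hv (subset_closure he)⟩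
    exact this hx ⟨x, hxV, rfl⟩
  let C := closure (f ⁻¹' E) \ f ⁻¹' E
  have hC : IsClosed C := by
    obtain ⟨U₀, C₀, hU₀, hC₀, he⟩ := hl
    have : C = closure (f ⁻¹' E) ∩ U₀ᶜ := by
      ext x
      refine ⟨fun hx => ⟨hx.1, fun hxU => hx.2 ?_⟩, fun hx => ⟨hx.1, fun hxE => hx.2 (he ▸ hxE).1⟩⟩
      have hxC : x ∈ C₀ := closure_minimal (he ▸ Set.inter_subset_right) hC₀ hx.1
      rw [he]; exact ⟨hxU, hxC⟩
    rw [this]
    exact isClosed_closure.inter hU₀.isClosed_compl
  have hBC : closure E \ E = f '' C := by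
    apply Set.Subset.antisymm
    · rintro y ⟨hy, hyE⟩
      obtain ⟨e, he, hey⟩ := LimTop.exists_specializes_of_mem_closure hF (closure_mono hEF hy)
      obtain ⟨x, x', hx, h1, h2⟩ := univSSubtrusive_self hf hey
      refine ⟨x, ⟨?_, fun hxE => hyE ?_⟩, h1⟩
      · exact closure_minimal (Set.singleton_subset_iff.2 (hFW (show f x' ∈ F by rw [h2]; exact he)))
          isClosed_closure hx.mem_closure
      · rw [← h1]; exact hxE
    · rintro _ ⟨x, hx, rfl⟩
      exact ⟨f.continuous.closure_preimage_subset E hx.1, hx.2⟩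
  have hB : ProCons.IsProConstructible (closure E \ E) := by
    rw [hBC]
    exact FDesc.ProConsImage.isProConstructible_image f (LimTop.isProConstructible_of_isClosed hC)
  have hclosed : IsClosed (closure E \ E) := by
    refine closure_subset_iff_isClosed.1 fun z hz => ?_
    obtain ⟨w, hw, hwz⟩ := LimTop.exists_specializes_of_mem_closure hB hz
    refine ⟨closure_minimal (fun a ha => ha.1) isClosed_closure hz, fun hzE => hw.2 ?_⟩
    obtain ⟨e, he, hew⟩ := LimTop.exists_specializes_of_mem_closure hF (closure_mono hEF hw.1)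
    obtain ⟨x, hmono, hx⟩ := exists_chain_lift f hf 2 ![e, w, z] (by
      intro i j hij
      fin_cases i <;> fin_cases j <;>
        first
          | exact specializes_rfl
          | exact hew
          | exact hwz
          | exact hew.trans hwz
          | simp at hij)
    have h0 : x 0 ∈ closure (f ⁻¹' E) := hFW (show f (x 0) ∈ F by rw [hx 0]; exact he)
    have h2 : x 2 ∈ f ⁻¹' E := by
      show f (x 2) ∈ E
      rw [hx 2]; exact hzE
    obtain ⟨U₀, C₀, hU₀, hC₀, heq⟩ := hl
    have h0' : x 0 ∈ C₀ := closure_minimal (heq ▸ Set.inter_subset_right) hC₀ h0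
    rw [heq] at h2
    have h1 : x 1 ∈ f ⁻¹' E := by
      rw [heq]
      exact ⟨(hmono 1 2 (by decide)).mem_open hU₀ h2.1, (hmono 0 1 (by decide)).mem_closed hC₀ h0'⟩
    have := hx 1
    rw [show (![e, w, z] : Fin 3 → S) 1 = w from rfl] at this
    rw [← this]; exact h1
  exact ⟨(closure E \ E)ᶜ, closure E, hclosed.isOpen_compl, isClosed_closure,
    Set.ext fun z => ⟨fun hz => ⟨fun h => h.2 hz, subset_closure hz⟩,
      fun ⟨h1, h2⟩ => by_contra fun hne => h1 ⟨h2, hne⟩⟩⟩

set_option backward.isDefEq.respectTransparency false in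
theorem isLocallyClosed_iff_preimage {S' S : Scheme.{u}} (f : S' ⟶ S)
    [LocallyOfFinitePresentation f] [QuasiCompact f] (hf : Subtr.UnivSSubtrusive f) (E : Set S) :
    IsLocallyClosed E ↔ IsLocallyClosed (f ⁻¹' E) := by
  refine ⟨fun h => h.preimage f.continuous, fun h => ?_⟩
  have hcov : IsOpenCover (fun W : S.affineOpens => W.1) := iSup_affineOpens_eq_top S
  rw [hcov.isLocallyClosed_iff_coe_preimage]
  intro W
  haveI : IsAffine W.1.toScheme := W.2
  haveI : QuasiCompact (f ∣_ W.1) := IsZariskiLocalAtTarget.restrict (P := @QuasiCompact) ‹_› _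
  haveI : LocallyOfFinitePresentation (f ∣_ W.1) :=
    IsZariskiLocalAtTarget.restrict (P := @LocallyOfFinitePresentation) ‹_› _
  have hf' : Subtr.UnivSSubtrusive (f ∣_ W.1) :=
    (MorphismProperty.universally_isStableUnderBaseChange _).of_isPullback
      (isPullback_morphismRestrict f W.1).flip hf
  refine isLocallyClosed_of_preimage_affine (f ∣_ W.1) hf' _ ?_
  have : (f ∣_ W.1) ⁻¹' (W.1.ι ⁻¹' E) = (f ⁻¹ᵁ W.1).ι ⁻¹' (f ⁻¹' E) := by
    rw [← Set.preimage_comp, ← Set.preimage_comp, ← TopCat.coe_comp, ← TopCat.coe_comp,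
      ← Scheme.Hom.comp_base, ← Scheme.Hom.comp_base, morphismRestrict_ι]
  exact this ▸ h.preimage (f ⁻¹ᵁ W.1).ι.continuous

end Groth.Agent.SubtrLib
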