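import Groth.Agent.SubtrLib.Basic
import Groth.Agent.LimTop.BaseChange
import Groth.Prelude.Def_W4c2submetdescSubtr
import Mathlib.AlgebraicGeometry.Fiber

/-!
# The lifting property for pairs of points passes to limits of base changes
-/

set_option autoImplicit false
set_option linter.style.haveILetI false

universe u

open CategoryTheory CategoryTheory.Limits AlgebraicGeometry Topology TopologicalSpace

namespace Groth.Agent.SubtrLib

/-- If every point of a morphism `f` has a neighbourhood basis of opens coming from base change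
stages `f j` which lift pairs, then `f` lifts pairs. -/
theorem isSSubtrusive_of_stages {X Y : Scheme.{u}} (f : X ⟶ Y) [QuasiCompact f] {J : Type*}
    (Xs Ys : J → Scheme.{u}) (a : ∀ j, X ⟶ Xs j) (b : ∀ j, Y ⟶ Ys j) (fs : ∀ j, Xs j ⟶ Ys j)
    (hsq : ∀ j, IsPullback (a j) f (fs j) (b j)) (hs : ∀ j, Subtr.IsSSubtrusive (fs j))
    (hbasis : ∀ (K : Set X), IsCompact K → ∀ (F : Set X), (∀ x ∈ K, x ∉ closure F) →
      ∃ (j : J) (V : (Xs j).Opens), K ⊆ a j ⁻¹' V ∧ Disjoint (a j ⁻¹' (V : Set (Xs j))) F) :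
    Subtr.IsSSubtrusive f := by
  intro y y' hy
  by_contra hno
  push Not at hno
  have hcl : ∀ x ∈ f ⁻¹' {y}, x ∉ closure (f ⁻¹' {y'}) := fun x hx hx' => by
    obtain ⟨x', h1, h2⟩ := exists_specializes_fibre f hx'
    exact hno x x' h1 hx h2
  obtain ⟨j, V, hK, hF⟩ := hbasis _ (f.isCompact_preimage_singleton y) _ hcl
  obtain ⟨x₁, x₁', h1, h2, h3⟩ := hs j (hy.map (b j).continuous)
  -- lift the two points to the limit
  have lift : ∀ (x₁ : Xs j) (z : Y), fs j x₁ = b j z → ∃ x : X, a j x = x₁ ∧ f x = z := by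
    intro x₁ z h
    obtain ⟨w, hw1, hw2⟩ := Scheme.Pullback.exists_preimage_pullback (f := fs j) (g := b j) x₁ z h
    refine ⟨(hsq j).isoPullback.inv w, ?_, ?_⟩
    · rw [← Scheme.Hom.comp_apply, (hsq j).isoPullback_inv_fst]; exact hw1
    · rw [← Scheme.Hom.comp_apply, (hsq j).isoPullback_inv_snd]; exact hw2
  obtain ⟨x, hx, hxy⟩ := lift x₁ y h2
  obtain ⟨x', hx', hxy'⟩ := lift x₁' y' h3
  have hV : x₁ ∈ V := hx ▸ hK hxy
  have hV' : x₁' ∈ V := h1.mem_open V.2 hV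
  exact Set.disjoint_left.1 hF (show a j x' ∈ V by rw [hx']; exact hV') hxy'

variable {I : Type u} [SmallCategory I] [IsCofiltered I] (D : I ⥤ Scheme.{u})
  [∀ (i j : I) (a : i ⟶ j), IsAffineHom (D.map a)] (c : Cone D) (hc : IsLimit c) (i₀ : I)
  {X₀ Y₀ : Scheme.{u}} (f₀ : X₀ ⟶ Y₀) (g₀ : Y₀ ⟶ D.obj i₀)

/-- The base change of `f₀` along `s : T ⟶ D i₀`. -/
local notation "X[" s "]" => pullback f₀ (pullback.fst g₀ s)

/-- The map between base changes of `g₀` induced by `t`. -/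
noncomputable def bcT {T T' : Scheme.{u}} (s : T ⟶ D.obj i₀) (s' : T' ⟶ D.obj i₀) (t : T ⟶ T')
    (ht : t ≫ s' = s) : pullback g₀ s ⟶ pullback g₀ s' :=
  pullback.map g₀ s g₀ s' (𝟙 _) t (𝟙 _) (by simp) (by simp [ht])

/-- The map between base changes of `f₀` induced by `t`. -/
noncomputable def bcS {T T' : Scheme.{u}} (s : T ⟶ D.obj i₀) (s' : T' ⟶ D.obj i₀) (t : T ⟶ T')
    (ht : t ≫ s' = s) : X[s] ⟶ X[s'] :=
  pullback.lift (pullback.fst _ _) (pullback.snd _ _ ≫ bcT D i₀ g₀ s s' t ht)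
    (by rw [pullback.condition, Category.assoc, bcT, pullback.lift_fst, Category.comp_id])

theorem isPullback_bcS {T T' : Scheme.{u}} (s : T ⟶ D.obj i₀) (s' : T' ⟶ D.obj i₀) (t : T ⟶ T')
    (ht : t ≫ s' = s) :
    IsPullback (bcS D i₀ f₀ g₀ s s' t ht) (pullback.snd f₀ (pullback.fst g₀ s))
      (pullback.snd f₀ (pullback.fst g₀ s')) (bcT D i₀ g₀ s s' t ht) := by
  refine IsPullback.of_right ?_ (pullback.lift_snd _ _ _) (IsPullback.of_hasPullback f₀ _)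
  rw [bcS, pullback.lift_fst, bcT, pullback.lift_fst, Category.comp_id]
  exact IsPullback.of_hasPullback _ _

/-- The projection from the limit to the stage `p`. -/
noncomputable def stageMap (i₁ : I) (ψ : i₁ ⟶ i₀) (p : Over i₁) :
    X[c.π.app i₀] ⟶ X[D.map (p.hom ≫ ψ)] :=
  bcS D i₀ f₀ g₀ (c.π.app i₀) (D.map (p.hom ≫ ψ)) (c.π.app p.left) (c.w _)

theorem bcS_comp {T T' T'' : Scheme.{u}} (s : T ⟶ D.obj i₀) (s' : T' ⟶ D.obj i₀)
    (s'' : T'' ⟶ D.obj i₀) (t : T ⟶ T') (t' : T' ⟶ T'') (t'' : T ⟶ T'') (ht : t ≫ s' = s)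
    (ht' : t' ≫ s'' = s') (ht'' : t'' ≫ s'' = s) (h : t ≫ t' = t'') :
    bcS D i₀ f₀ g₀ s s' t ht ≫ bcS D i₀ f₀ g₀ s' s'' t' ht' = bcS D i₀ f₀ g₀ s s'' t'' ht'' := by
  subst h
  refine pullback.hom_ext ?_ (pullback.hom_ext ?_ ?_)
  · simp only [bcS, Category.assoc, pullback.lift_fst]
  · simp only [bcS, bcT, Category.assoc, pullback.lift_fst, pullback.lift_snd_assoc, Category.comp_id]
  · simp only [bcS, bcT, Category.assoc, pullback.lift_snd, pullback.lift_snd_assoc]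

include hc in
theorem exists_stage_nhd (i₁ : I) (ψ : i₁ ⟶ i₀) {x : ↥X[c.π.app i₀]}
    {U : Set ↥X[c.π.app i₀]} (hU : IsOpen U) (hx : x ∈ U) :
    ∃ (p : Over i₁) (V : (X[D.map (p.hom ≫ ψ)]).Opens),
      x ∈ stageMap D c i₀ f₀ g₀ i₁ ψ p ⁻¹' (V : Set _) ∧
      stageMap D c i₀ f₀ g₀ i₁ ψ p ⁻¹' (V : Set _) ⊆ U := by
  let h := f₀ ≫ g₀
  let P := (LimTop.bcCone c i₀ h).pt
  let e : X[c.π.app i₀] ≅ P :=
    (pullbackRightPullbackFstIso g₀ (c.π.app i₀) f₀) ≪≫ pullbackSymmetry _ _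
  obtain ⟨_, ⟨j, V, hV, rfl⟩, hxV, hVU⟩ := Opens.isBasis_iff_nbhd.mp
    (isBasis_preimage_isAffineOpen _ _ (LimTop.isLimitBcCone hc i₀ h)) (U := (⟨_, hU⟩ : X[c.π.app i₀].Opens).comap ⟨e.inv.base, e.inv.continuous⟩) (x := e.hom x)
    (show e.inv (e.hom x) ∈ U by rwa [← Scheme.Hom.comp_apply, e.hom_inv_id])
  -- a stage over `i₁` mapping to `j`, compatibly over `i₀`
  let k := IsCofiltered.min i₁ j.left
  obtain ⟨l, q, hq⟩ : ∃ (l : I) (q : l ⟶ k),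
      q ≫ IsCofiltered.minToLeft _ _ ≫ ψ = q ≫ IsCofiltered.minToRight _ _ ≫ j.hom :=
    ⟨_, IsCofiltered.eqHom _ _, IsCofiltered.eq_condition _ _⟩
  let p : Over i₁ := Over.mk (q ≫ IsCofiltered.minToLeft i₁ j.left)
  let r : p.left ⟶ j.left := q ≫ IsCofiltered.minToRight i₁ j.left
  have hr : D.map r ≫ D.map j.hom = D.map (p.hom ≫ ψ) := by
    rw [← Functor.map_comp]
    exact congrArg D.map (by simpa [p, r] using hq.symm)
  let m : X[D.map (p.hom ≫ ψ)] ⟶ pullback (D.map j.hom) h :=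
    pullback.lift (pullback.snd _ _ ≫ pullback.snd _ _ ≫ D.map r) (pullback.fst _ _) (by
      simp only [Category.assoc, h]
      rw [pullback.condition_assoc, pullback.condition]
      exact congrArg (pullback.snd _ _ ≫ pullback.snd _ _ ≫ ·) hr)
  let πj : pullback (c.π.app i₀) h ⟶ pullback (D.map j.hom) h := (LimTop.bcCone c i₀ h).π.app j
  have hπ₁ : πj ≫ pullback.fst (D.map j.hom) h = pullback.fst (c.π.app i₀) h ≫ c.π.app j.left :=
    LimTop.bcCone_fst c i₀ h j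
  have hπ₂ : πj ≫ pullback.snd (D.map j.hom) h = pullback.snd (c.π.app i₀) h :=
    LimTop.bcCone_snd c i₀ h j
  let e' : X[c.π.app i₀] ⟶ pullback (c.π.app i₀) h := e.hom
  have he₁ : e' ≫ pullback.fst (c.π.app i₀) h = pullback.snd _ _ ≫ pullback.snd _ _ := by
    show ((pullbackRightPullbackFstIso g₀ (c.π.app i₀) f₀).hom ≫ (pullbackSymmetry _ _).hom) ≫ _ = _
    simp [h]
  have he₂ : e' ≫ pullback.snd (c.π.app i₀) h = pullback.fst _ _ := by
    show ((pullbackRightPullbackFstIso g₀ (c.π.app i₀) f₀).hom ≫ (pullbackSymmetry _ _).hom) ≫ _ = _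
    simp [h]
  have hm : bcS D i₀ f₀ g₀ (c.π.app i₀) (D.map (p.hom ≫ ψ)) (c.π.app p.left) (c.w _) ≫ m =
      e' ≫ πj := by
    refine pullback.hom_ext ?_ ?_
    · rw [Category.assoc, Category.assoc, hπ₁, reassoc_of% he₁]
      simp only [m, bcS, bcT, pullback.lift_fst, pullback.lift_snd_assoc, Category.assoc]
      rw [c.w r]
    · rw [Category.assoc, Category.assoc, hπ₂, he₂]
      simp only [m, bcS, bcT, pullback.lift_fst, pullback.lift_snd]
  refine ⟨p, m ⁻¹ᵁ V, ?_, fun z hz => ?_⟩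
  · show (bcS D i₀ f₀ g₀ _ _ _ _ ≫ m) x ∈ V
    rw [hm]; exact hxV
  · replace hz : (bcS D i₀ f₀ g₀ _ _ _ _ ≫ m) z ∈ V := hz
    rw [hm] at hz
    have := hVU (show e.hom z ∈ _ from hz)
    replace this : e.inv (e.hom z) ∈ U := this
    rwa [← Scheme.Hom.comp_apply, e.hom_inv_id] at this

set_option maxHeartbeats 1000000 in
include hc in
theorem isSSubtrusive_limit [QuasiCompact f₀] (i₁ : I) (ψ : i₁ ⟶ i₀)
    (h : ∀ (p : Over i₁), Subtr.IsSSubtrusive (pullback.snd f₀ (pullback.fst g₀ (D.map (p.hom ≫ ψ))))) :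
    Subtr.IsSSubtrusive (pullback.snd f₀ (pullback.fst g₀ (c.π.app i₀))) := by
  refine isSSubtrusive_of_stages _ (fun p : Over i₁ => X[D.map (p.hom ≫ ψ)])
    (fun p => pullback g₀ (D.map (p.hom ≫ ψ)))
    (fun p => stageMap D c i₀ f₀ g₀ i₁ ψ p)
    (fun p => bcT D i₀ g₀ (c.π.app i₀) _ (c.π.app p.left) (c.w _)) _
    (fun p => isPullback_bcS D i₀ f₀ g₀ _ _ _ _) h fun K hK F hF => ?_
  choose p V hxV hVsub using fun x : K => exists_stage_nhd D c hc i₀ f₀ g₀ i₁ ψ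
    isClosed_closure.isOpen_compl (hF x.1 x.2)
  obtain ⟨t, ht⟩ := hK.elim_finite_subcover
    (fun x : K => stageMap D c i₀ f₀ g₀ i₁ ψ (p x) ⁻¹' (V x : Set _))
    (fun x => (V x).2.preimage (Scheme.Hom.continuous _))
    (fun x hx => Set.mem_iUnion.2 ⟨⟨x, hx⟩, hxV ⟨x, hx⟩⟩)
  classical
  obtain ⟨P, hP⟩ := IsCofiltered.inf_objs_exists (t.image p)
  let φ : ∀ x : t, P ⟶ p x := fun x => (hP (Finset.mem_image_of_mem p x.2)).some
  have hφ : ∀ x : t, D.map (φ x).left ≫ D.map ((p x).hom ≫ ψ) = D.map (P.hom ≫ ψ) := fun x => by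
    rw [← Functor.map_comp, ← Category.assoc, Over.w (φ x)]
  let tr := fun x : t => bcS D i₀ f₀ g₀ (D.map (P.hom ≫ ψ)) (D.map ((p x).hom ≫ ψ)) _ (hφ x)
  have htr : ∀ x : t, stageMap D c i₀ f₀ g₀ i₁ ψ P ≫ tr x =
      stageMap D c i₀ f₀ g₀ i₁ ψ (p x) := fun x => by
    exact bcS_comp D i₀ f₀ g₀ _ _ _ _ _ _ _ _ _ (c.w (φ x).left)
  refine ⟨P, ⨆ x : t, tr x ⁻¹ᵁ V x, fun k hk => ?_, ?_⟩
  · obtain ⟨x, hxt, hkx⟩ := Set.mem_iUnion₂.1 (ht hk)
    refine Opens.mem_iSup.2 ⟨⟨x, hxt⟩, ?_⟩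
    show (stageMap D c i₀ f₀ g₀ i₁ ψ P ≫ tr ⟨x, hxt⟩) k ∈ V x
    rw [htr]; exact hkx
  · refine Set.disjoint_left.2 fun k hk hkF => ?_
    obtain ⟨x, hkx⟩ := Opens.mem_iSup.1 hk
    replace hkx : (stageMap D c i₀ f₀ g₀ i₁ ψ P ≫ tr x) k ∈ V x := hkx
    rw [htr] at hkx
    exact hVsub x.1 hkx (subset_closure hkF)

end Groth.Agent.SubtrLib
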