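import Groth.Agent.SubtrLib.Val
import Groth.Agent.DVRProper.Basic

/-!
# Chains of specializations are realised in valuation rings
-/

set_option autoImplicit false
set_option linter.style.haveILetI false

universe u

open CategoryTheory CategoryTheory.Limits AlgebraicGeometry Topology IsLocalRing

namespace Groth.Agent.SubtrLib

theorem exists_valuation_chain {Y : Scheme.{u}} : ∀ (n : ℕ) (y : Fin (n + 1) → Y),
    (∀ i j : Fin (n + 1), i ≤ j → y i ⤳ y j) →
    ∃ (L : Type u) (_ : Field L) (V : ValuationSubring L) (g : Spec (CommRingCat.of V) ⟶ Y)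
      (p : Fin (n + 1) → Spec (CommRingCat.of V)),
      (∀ i j : Fin (n + 1), i ≤ j → p i ⤳ p j) ∧ (∀ i, g (p i) = y i) ∧
        p (Fin.last n) = closedPoint V := by
  intro n
  induction n with
  | zero =>
    intro y _
    let φ : Y.presheaf.stalk (y 0) ⟶ Y.residueField (y 0) := Y.residue (y 0)
    obtain ⟨A, hA, hloc⟩ := exists_factor_valuationRing φ.hom
    refine ⟨Y.residueField (y 0), inferInstance, A,
      Spec.map (CommRingCat.ofHom (φ.hom.codRestrict _ hA)) ≫ Y.fromSpecStalk (y 0),
      fun _ => closedPoint A, fun _ _ _ => specializes_rfl, fun i => ?_, rfl⟩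
    have : Spec.map (CommRingCat.ofHom (φ.hom.codRestrict _ hA)) (closedPoint A) =
        closedPoint (Y.presheaf.stalk (y 0)) :=
      comap_closedPoint (S := A) (φ.hom.codRestrict A.toSubring hA)
    rw [Scheme.Hom.comp_apply, this, Scheme.fromSpecStalk_closedPoint, Subsingleton.elim (0 : Fin 1) i]
  | succ n ih =>
    intro y hy
    obtain ⟨L, _, V, g, p, hp, hgp, hlast⟩ := ih (fun i => y i.castSucc)
      (fun i j hij => hy _ _ (Fin.castSucc_le_castSucc_iff.2 hij))
    let y' := y (Fin.last (n + 1))
    have hs : g (closedPoint V) ⤳ y' := by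
      rw [← hlast, hgp]
      exact hy _ _ (Fin.le_last _)
    let φ₀ : Y.presheaf.stalk y' ⟶ CommRingCat.of V :=
      Y.presheaf.stalkSpecializes hs ≫ Scheme.stalkClosedPointTo g
    obtain ⟨W₁, hW₁, hloc⟩ := exists_factor_valuationRing ((residue V).comp φ₀.hom)
    obtain ⟨W, hW⟩ := DVRProper.exists_composite V W₁
    have hle : W ≤ V := fun a ha => ((hW a).1 ha).1
    have hmem : ∀ s, (φ₀.hom s : L) ∈ W.toSubring := fun s => (hW _).2 ⟨(φ₀.hom s).2, by
      simpa using hW₁ s⟩
    let φ : Y.presheaf.stalk y' →+* W := (V.subtype.comp φ₀.hom).codRestrict W.toSubring hmem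
    haveI : IsLocalHom φ := ⟨fun s hu => by
      obtain ⟨v, hv⟩ := hu.exists_right_inv
      obtain ⟨hvV, hvW⟩ := (hW _).1 v.2
      refine hloc.map_nonunit _ (IsUnit.of_mul_eq_one (⟨residue V ⟨v, hvV⟩, hvW⟩ : W₁.toSubring) ?_)
      refine Subtype.ext ?_
      show residue V (φ₀.hom s) * residue V ⟨v, hvV⟩ = 1
      rw [← map_mul, show φ₀.hom s * ⟨v, hvV⟩ = (1 : V) from Subtype.ext (congrArg Subtype.val hv :),
        map_one]⟩
    let g' : Spec (CommRingCat.of W) ⟶ Y := Spec.map (CommRingCat.ofHom φ) ≫ Y.fromSpecStalk y'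
    let j : Spec (CommRingCat.of V) ⟶ Spec (CommRingCat.of W) :=
      Spec.map (CommRingCat.ofHom (ValuationSubring.inclusion W V hle))
    have hj : j ≫ g' = g := by
      simp only [j, g']
      rw [← Spec.map_comp_assoc]
      rw [show CommRingCat.ofHom φ ≫ CommRingCat.ofHom (ValuationSubring.inclusion W V hle) = φ₀ from
        CommRingCat.hom_ext (RingHom.ext fun s => Subtype.ext rfl)]
      simp only [φ₀, Spec.map_comp, Category.assoc, Scheme.SpecMap_stalkSpecializes_fromSpecStalk]
      exact Scheme.Spec_stalkClosedPointTo_fromSpecStalk g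
    refine ⟨L, inferInstance, W, g',
      Fin.snoc (α := fun _ => Spec (CommRingCat.of W)) (fun i => j (p i)) (closedPoint W), ?_, ?_, ?_⟩
    · intro i i' hii'
      induction i' using Fin.lastCases with
      | last => rw [Fin.snoc_last]; exact specializes_closedPoint _
      | cast i' =>
        induction i using Fin.lastCases with
        | last => exact absurd hii' (not_le.2 (Fin.castSucc_lt_last i'))
        | cast i =>
          rw [Fin.snoc_castSucc, Fin.snoc_castSucc]
          exact (hp i i' (Fin.castSucc_le_castSucc_iff.1 hii')).map j.continuous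
    · intro i
      induction i using Fin.lastCases with
      | last =>
        rw [Fin.snoc_last, Scheme.Hom.comp_apply,
          show Spec.map (CommRingCat.ofHom φ) (closedPoint W) = closedPoint (Y.presheaf.stalk y') from
            comap_closedPoint (S := W) φ, Scheme.fromSpecStalk_closedPoint]
      | cast i => rw [Fin.snoc_castSucc, ← Scheme.Hom.comp_apply, hj, hgp]
    · exact Fin.snoc_last _ _

/-- Lifting of finite chains along universally S-subtrusive morphisms. -/
theorem exists_chain_lift {X Y : Scheme.{u}} (f : X ⟶ Y) (hf : Subtr.UnivSSubtrusive f) (n : ℕ)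
    (y : Fin (n + 1) → Y) (hy : ∀ i j : Fin (n + 1), i ≤ j → y i ⤳ y j) :
    ∃ x : Fin (n + 1) → X, (∀ i j : Fin (n + 1), i ≤ j → x i ⤳ x j) ∧ ∀ i, f (x i) = y i := by
  obtain ⟨L, _, V, g, p, hp, hgp, -⟩ := exists_valuation_chain n y hy
  obtain ⟨W, _, _, _, a, b, hb, hab⟩ := (univSSubtrusive_iff_exists_lift f).1 hf V g
  choose σ hσ using hb.surj
  refine ⟨fun i => a (σ (p i)), fun i j hij => Specializes.map ?_ a.continuous, fun i => ?_⟩
  · have hpq := hp i j hij
    rcases ((ValuationRing.iff_ideal_total (R := W)).1 inferInstance).total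
      (σ (p i) : PrimeSpectrum W).asIdeal (σ (p j) : PrimeSpectrum W).asIdeal with h | h
    · exact (PrimeSpectrum.le_iff_specializes (σ (p i) : PrimeSpectrum W) (σ (p j))).1 h
    · have h' : σ (p j) ⤳ σ (p i) :=
        (PrimeSpectrum.le_iff_specializes (σ (p j) : PrimeSpectrum W) (σ (p i))).1 h
      have h'' := h'.map b.continuous
      rw [hσ, hσ] at h''
      rw [(hpq.antisymm h'').eq]
  · rw [← Scheme.Hom.comp_apply, hab, Scheme.Hom.comp_apply, hσ, hgp]

end Groth.Agent.SubtrLib
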