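import Groth.Agent.SubtrLib.Val
import Groth.Agent.DVRProper.Basic

/-!
# Pair lifting over a valuation ring from finitely generated subalgebras

If, for a quasi-compact morphism `f : X ⟶ Y`, the pair (closed point, generic point) of a valuation
ring `V` over an affine open of `Y` does not lift, then it already fails for some finitely generated
subalgebra of `V`.
-/

set_option autoImplicit false
set_option linter.style.haveILetI false

universe u

open CategoryTheory CategoryTheory.Limits AlgebraicGeometry Topology IsLocalRing TensorProduct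

namespace Groth.Agent.SubtrLib

section Alg

variable {R V B : Type u} [CommRing R] [CommRing V] [Algebra R V] [CommRing B] [Algebra R B]

/-- The base change of a subalgebra inclusion. -/
noncomputable abbrev toTop (A : Subalgebra R V) : A ⊗[R] B →ₐ[R] V ⊗[R] B :=
  Algebra.TensorProduct.map A.val (AlgHom.id R B)

/-- The base change of an inclusion of subalgebras. -/
noncomputable abbrev incl {A A' : Subalgebra R V} (h : A ≤ A') : A ⊗[R] B →ₐ[R] A' ⊗[R] B :=
  Algebra.TensorProduct.map (Subalgebra.inclusion h) (AlgHom.id R B)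

theorem toTop_incl {A A' : Subalgebra R V} (h : A ≤ A') (t : A ⊗[R] B) :
    toTop A' (incl h t) = toTop A t := by
  induction t using TensorProduct.induction_on with
  | zero => simp only [map_zero]
  | tmul a b => rfl
  | add x y hx hy => simp only [map_add, hx, hy]

theorem incl_incl {A A' A'' : Subalgebra R V} (h : A ≤ A') (h' : A' ≤ A'') (t : A ⊗[R] B) :
    incl h' (incl h t) = incl (h.trans h') t := by
  induction t using TensorProduct.induction_on with
  | zero => simp only [map_zero]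
  | tmul a b => rfl
  | add x y hx hy => simp only [map_add, hx, hy]

theorem toTop_eq_rTensor (A : Subalgebra R V) (t : A ⊗[R] B) :
    toTop A t = A.val.toLinearMap.rTensor B t := by
  induction t using TensorProduct.induction_on with
  | zero => simp only [map_zero]
  | tmul a b => rfl
  | add x y hx hy => simp only [map_add, hx, hy]

theorem exists_toTop_eq (x : V ⊗[R] B) :
    ∃ (A : Subalgebra R V) (u : A ⊗[R] B), A.FG ∧ toTop A u = x := by
  obtain ⟨A, hA, u, hu⟩ := TensorProduct.Algebra.exists_of_fg x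
  exact ⟨A, u, hA, (toTop_eq_rTensor A u).trans hu⟩

theorem exists_incl_eq {A : Subalgebra R V} (hA : A.FG) {t t' : A ⊗[R] B}
    (h : toTop A t = toTop A t') :
    ∃ (A' : Subalgebra R V) (hle : A ≤ A'), A'.FG ∧ incl hle t = incl hle t' := by
  rw [toTop_eq_rTensor, toTop_eq_rTensor] at h
  obtain ⟨A', hle, hA', e⟩ := TensorProduct.Algebra.eq_of_fg_of_subtype_eq hA h
  have e' : ∀ s, incl hle s = (Subalgebra.inclusion hle).toLinearMap.rTensor B s := fun s => by
    induction s using TensorProduct.induction_on with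
    | zero => simp only [map_zero]
    | tmul a b => rfl
    | add x y hx hy => simp only [map_add, hx, hy]
  exact ⟨A', hle, hA', by rw [e', e', e]⟩

/-- `x` is the image of an element lying in all primes over `𝔭` at all larger finite levels. -/
def Forced (𝔭 : Ideal V) (x : V ⊗[R] B) : Prop :=
  ∃ (A : Subalgebra R V) (u : A ⊗[R] B), A.FG ∧ toTop A u = x ∧
    ∀ (A' : Subalgebra R V) (h : A ≤ A') (P : Ideal (A' ⊗[R] B)), P.IsPrime →
      P.comap (Algebra.TensorProduct.includeLeftRingHom : A' →+* A' ⊗[R] B) =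
        𝔭.comap A'.val.toRingHom → incl h u ∈ P

theorem Forced.add {𝔭 : Ideal V} {x y : V ⊗[R] B} (hx : Forced 𝔭 x) (hy : Forced 𝔭 y) :
    Forced 𝔭 (x + y) := by
  obtain ⟨A₁, u₁, h₁, e₁, p₁⟩ := hx
  obtain ⟨A₂, u₂, h₂, e₂, p₂⟩ := hy
  refine ⟨A₁ ⊔ A₂, incl (le_sup_left : A₁ ≤ A₁ ⊔ A₂) u₁ + incl (le_sup_right : A₂ ≤ A₁ ⊔ A₂) u₂, h₁.sup h₂, ?_, fun A' h P hP hc => ?_⟩
  · rw [map_add, toTop_incl, toTop_incl, e₁, e₂]
  · rw [map_add, incl_incl, incl_incl]
    exact P.add_mem (p₁ _ _ P hP hc) (p₂ _ _ P hP hc)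

theorem Forced.mul {𝔭 : Ideal V} {x : V ⊗[R] B} (y : V ⊗[R] B) (hx : Forced 𝔭 x) :
    Forced 𝔭 (y * x) := by
  obtain ⟨A₁, u₁, h₁, e₁, p₁⟩ := hx
  obtain ⟨A₂, u₂, h₂, e₂⟩ := exists_toTop_eq y
  refine ⟨A₁ ⊔ A₂, incl (le_sup_right : A₂ ≤ A₁ ⊔ A₂) u₂ * incl (le_sup_left : A₁ ≤ A₁ ⊔ A₂) u₁, h₁.sup h₂, ?_, fun A' h P hP hc => ?_⟩
  · rw [map_mul, toTop_incl, toTop_incl, e₁, e₂]
  · rw [map_mul, incl_incl, incl_incl]
    exact P.mul_mem_left _ (p₁ _ _ P hP hc)

variable [IsDomain V] [IsLocalRing V]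

open Algebra.TensorProduct in
/-- If no pair of primes lies over the closed and generic point, this already holds at a finite
level. -/
theorem exists_fg_of_no_pair
    (hno : ∀ P P' : Ideal (V ⊗[R] B), P.IsPrime → P'.IsPrime → P' ≤ P →
      P.comap (includeLeftRingHom : V →+* V ⊗[R] B) = maximalIdeal V →
      P'.comap (includeLeftRingHom : V →+* V ⊗[R] B) = ⊥ → False) :
    ∃ A₀ : Subalgebra R V, A₀.FG ∧ ∀ A : Subalgebra R V, A₀ ≤ A →
      ∀ P P' : Ideal (A ⊗[R] B), P.IsPrime → P'.IsPrime → P' ≤ P →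
      P.comap (includeLeftRingHom : A →+* A ⊗[R] B) = (maximalIdeal V).comap A.val.toRingHom →
      P'.comap (includeLeftRingHom : A →+* A ⊗[R] B) = (⊥ : Ideal V).comap A.val.toRingHom →
      False := by
  classical
  let j : V →+* V ⊗[R] B := includeLeftRingHom
  -- torsion elements
  let T : Ideal (V ⊗[R] B) :=
    { carrier := {t | ∃ a : V, a ≠ 0 ∧ j a * t = 0}
      add_mem' := fun {s t} ⟨a, ha, hs⟩ ⟨b, hb, ht⟩ => ⟨a * b, mul_ne_zero ha hb, by
        rw [map_mul, mul_add, mul_right_comm, hs, zero_mul, zero_add, mul_assoc, ht, mul_zero]⟩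
      zero_mem' := ⟨1, one_ne_zero, mul_zero _⟩
      smul_mem' := fun c t ⟨a, ha, ht⟩ => ⟨a, ha, by
        rw [smul_eq_mul, mul_left_comm, ht, mul_zero]⟩ }
  have htop : T ⊔ (maximalIdeal V).map j = ⊤ := by
    by_contra hne
    obtain ⟨P, hP, hle⟩ := Ideal.exists_le_maximal _ hne
    haveI := hP.isPrime
    let S : Submonoid (V ⊗[R] B) :=
      { carrier := {x | ∃ (a : V) (s : V ⊗[R] B), a ≠ 0 ∧ s ∉ P ∧ x = j a * s}
        one_mem' := ⟨1, 1, one_ne_zero, fun h => hP.ne_top ((Ideal.eq_top_iff_one _).2 h), by simp⟩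
        mul_mem' := by
          rintro x y ⟨a, s, ha, hs, rfl⟩ ⟨b, t, hb, ht, rfl⟩
          exact ⟨a * b, s * t, mul_ne_zero ha hb, fun h => (hP.isPrime.mem_or_mem h).elim hs ht,
            by rw [map_mul]; ring⟩ }
    obtain ⟨P', hP', -, hdisj⟩ := Ideal.exists_le_prime_disjoint (⊥ : Ideal (V ⊗[R] B)) S (by
      rw [Set.disjoint_left]
      rintro x hx ⟨a, s, ha, hs, rfl⟩
      exact hs (hle (Ideal.mem_sup_left ⟨a, ha, Ideal.mem_bot.1 hx⟩)))
    rw [Set.disjoint_left] at hdisj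
    refine hno P P' hP.isPrime hP' (fun s hs => ?_) ?_ ?_
    · by_contra hsP
      exact hdisj hs ⟨1, s, one_ne_zero, hsP, by rw [map_one, one_mul]⟩
    · have hle' : maximalIdeal V ≤ P.comap j :=
        Ideal.map_le_iff_le_comap.1 (le_sup_right.trans hle)
      exact ((maximalIdeal.isMaximal V).eq_of_le (Ideal.comap_ne_top j hP.ne_top) hle').symm
    · rw [eq_bot_iff]
      intro a ha
      by_contra ha0
      exact hdisj (show j a ∈ P' from ha)
        ⟨a, 1, fun h => ha0 (h ▸ zero_mem _), fun h => hP.ne_top ((Ideal.eq_top_iff_one _).2 h),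
          (mul_one _).symm⟩
  obtain ⟨t, ⟨a, ha, hat⟩, m, hm, htm⟩ := Submodule.mem_sup.1 ((Ideal.eq_top_iff_one _).1 htop)
  have hmF : Forced (maximalIdeal V) m := by
    clear htm
    induction hm using Submodule.span_induction with
    | mem m hm =>
      obtain ⟨v, hv, rfl⟩ := hm
      refine ⟨Algebra.adjoin R {v}, (⟨v, Algebra.self_mem_adjoin_singleton R v⟩ :
        Algebra.adjoin R {v}) ⊗ₜ 1, ⟨{v}, by simp⟩, rfl, fun A' h P hP hc => ?_⟩
      have : (⟨v, h (Algebra.self_mem_adjoin_singleton R v)⟩ : A') ∈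
          (maximalIdeal V).comap A'.val.toRingHom := hv
      rw [← hc] at this
      exact this
    | zero => exact ⟨⊥, 0, Subalgebra.fg_bot, map_zero _, fun _ _ P _ _ => by
        rw [map_zero]; exact P.zero_mem⟩
    | add x y _ _ hx hy => exact hx.add hy
    | smul r x _ hx => exact hx.mul r
  obtain ⟨A₁, v, hA₁, hv, pv⟩ := hmF
  obtain ⟨A₂, u, hA₂, hu⟩ := exists_toTop_eq t
  let A₃ := A₁ ⊔ A₂ ⊔ Algebra.adjoin R {a}
  have hA₃ : A₃.FG := (hA₁.sup hA₂).sup ⟨{a}, by simp⟩
  let a₃ : A₃ := ⟨a, (le_sup_right : _ ≤ A₃) (Algebra.self_mem_adjoin_singleton R a)⟩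
  let u₃ := incl ((le_sup_right : A₂ ≤ A₁ ⊔ A₂).trans le_sup_left : A₂ ≤ A₃) u
  let v₃ := incl ((le_sup_left : A₁ ≤ A₁ ⊔ A₂).trans le_sup_left : A₁ ≤ A₃) v
  obtain ⟨A₄, h₃₄, hA₄, e₄⟩ := exists_incl_eq hA₃ (t := (a₃ ⊗ₜ[R] (1 : B)) * u₃) (t' := 0) (by
    rw [map_mul, map_zero, toTop_incl, hu]
    exact hat)
  obtain ⟨A₅, h₄₅, hA₅, e₅⟩ := exists_incl_eq hA₄ (t := incl h₃₄ (u₃ + v₃)) (t' := 1) (by
    rw [toTop_incl, map_add, map_one, toTop_incl, toTop_incl, hu, hv]
    exact htm)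
  refine ⟨A₅, hA₅, fun A hA P P' hP hP' hPP' hc hc' => ?_⟩
  have h₃ : A₃ ≤ A := h₃₄.trans (h₄₅.trans hA)
  have e5 : incl h₃ u₃ + incl h₃ v₃ = 1 := by
    have := congrArg (incl hA) e₅
    rwa [map_one, incl_incl, incl_incl, map_add] at this
  have hv' : incl h₃ v₃ ∈ P := by
    rw [incl_incl]; exact pv A _ P hP hc
  have hu' : incl h₃ u₃ ∈ P' := by
    have e4 := congrArg (incl (h₄₅.trans hA)) e₄
    rw [map_zero, map_zero, incl_incl, map_mul] at e4
    refine (hP'.mem_or_mem (e4 ▸ P'.zero_mem)).resolve_left fun h => ha ?_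
    have : Subalgebra.inclusion h₃ a₃ ∈ P'.comap (includeLeftRingHom : A →+* A ⊗[R] B) := h
    rw [hc'] at this
    exact this
  exact hP.ne_top ((Ideal.eq_top_iff_one _).2 (e5 ▸ P.add_mem (hPP' hu') hv'))

end Alg

section Geom

variable {X Y : Scheme.{u}} (f : X ⟶ Y)

/-- Pairs of points over a chart come from the tensor product. -/
theorem exists_pair_tensor {R B A : Type u} [CommRing R] [CommRing B] [CommRing A] [Algebra R B]
    [Algebra R A] (ι : Spec (CommRingCat.of R) ⟶ Y) [IsOpenImmersion ι]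
    (c : Spec (CommRingCat.of B) ⟶ X) [IsOpenImmersion c]
    (hc : c ≫ f = Spec.map (CommRingCat.ofHom (algebraMap R B)) ≫ ι)
    (z' z : ↥(pullback f (Spec.map (CommRingCat.ofHom (algebraMap R A)) ≫ ι))) (hz : z' ⤳ z)
    (hr : pullback.fst f (Spec.map (CommRingCat.ofHom (algebraMap R A)) ≫ ι) z ∈ Set.range c) :
    ∃ w' w : PrimeSpectrum (A ⊗[R] B), w'.asIdeal ≤ w.asIdeal ∧
      PrimeSpectrum.comap (Algebra.TensorProduct.includeLeftRingHom : A →+* A ⊗[R] B) w' =
        pullback.snd f (Spec.map (CommRingCat.ofHom (algebraMap R A)) ≫ ι) z' ∧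
      PrimeSpectrum.comap (Algebra.TensorProduct.includeLeftRingHom : A →+* A ⊗[R] B) w =
        pullback.snd f (Spec.map (CommRingCat.ofHom (algebraMap R A)) ≫ ι) z := by
  let gA := Spec.map (CommRingCat.ofHom (algebraMap R A)) ≫ ι
  let q₁ := pullback.fst c (pullback.fst f gA)
  let q₂ := pullback.snd c (pullback.fst f gA)
  have hq : (q₂ ≫ pullback.snd f gA) ≫ Spec.map (CommRingCat.ofHom (algebraMap R A)) =
      q₁ ≫ Spec.map (CommRingCat.ofHom (algebraMap R B)) := by
    rw [← cancel_mono ι]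
    simp only [Category.assoc]
    rw [← hc, show Spec.map (CommRingCat.ofHom (algebraMap R A)) ≫ ι = gA from rfl,
      ← pullback.condition (f := f) (g := gA)]
    exact pullback.condition_assoc f |>.symm
  let sq := isPullback_SpecMap_of_isPushout _ _ _ _ (CommRingCat.isPushout_tensorProduct R A B)
  let e := sq.lift (q₂ ≫ pullback.snd f gA) q₁ hq
  obtain ⟨b, hb⟩ := hr
  obtain ⟨y, -, hy⟩ := Scheme.Pullback.exists_preimage_pullback (f := c) (g := pullback.fst f gA) b z hb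
  have hz' : pullback.fst f gA z' ∈ Set.range c :=
    ((hz.map (pullback.fst f gA).continuous).mem_open c.isOpenEmbedding.isOpen_range ⟨b, hb⟩)
  obtain ⟨b', hb'⟩ := hz'
  obtain ⟨y', -, hy'⟩ := Scheme.Pullback.exists_preimage_pullback (f := c) (g := pullback.fst f gA) b' z' hb'
  have hyy : y' ⤳ y := (q₂.isOpenEmbedding.isInducing.specializes_iff).1 (by
    change q₂ y' ⤳ q₂ y
    rw [hy, hy']; exact hz)
  refine ⟨e y', e y, (PrimeSpectrum.le_iff_specializes (e y' : PrimeSpectrum _) (e y)).2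
    (hyy.map e.continuous), ?_, ?_⟩
  · rw [← hy']
    exact congrArg (fun k : pullback c (pullback.fst f gA) ⟶ Spec (CommRingCat.of A) => k.base y')
      (sq.lift_fst _ _ hq)
  · rw [← hy]
    exact congrArg (fun k : pullback c (pullback.fst f gA) ⟶ Spec (CommRingCat.of A) => k.base y)
      (sq.lift_fst _ _ hq)

/-- Lifting of pairs is inherited from finitely generated subalgebras. -/
theorem univSSubtrusive_of_forall_fg [QuasiCompact f]
    (H : ∀ (R V : Type u) [CommRing R] [CommRing V] [IsDomain V] [ValuationRing V] [Algebra R V]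
      (ι : Spec (CommRingCat.of R) ⟶ Y), IsOpenImmersion ι → ∀ A : Subalgebra R V, A.FG →
      ∃ z' z : ↥(pullback f (Spec.map (CommRingCat.ofHom (algebraMap R A)) ≫ ι)), z' ⤳ z ∧
        pullback.snd f (Spec.map (CommRingCat.ofHom (algebraMap R A)) ≫ ι) z =
          Spec.map (CommRingCat.ofHom A.val.toRingHom) (closedPoint V) ∧
        pullback.snd f (Spec.map (CommRingCat.ofHom (algebraMap R A)) ≫ ι) z' =
          Spec.map (CommRingCat.ofHom A.val.toRingHom) (gen V)) :
    Subtr.UnivSSubtrusive f := by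
  rw [univSSubtrusive_iff_forall_valuationRing]
  intro V _ _ _ g
  refine ((tfae V (pullback.snd f g)).out 3 1 rfl rfl).1 ?_
  by_contra hlift
  obtain ⟨U, hU, hyU, -⟩ := exists_isAffineOpen_mem_and_subset
    (TopologicalSpace.Opens.mem_top (g (closedPoint V)))
  let R := Γ(Y, U)
  obtain ⟨φ, hφ⟩ := DVRProper.exists_factor g hU hyU
  letI : Algebra R V := φ.hom.toAlgebra
  obtain ⟨W, hW, hcov⟩ := isCompact_iff_finite_and_eq_biUnion_affineOpens.1
    (f.isCompact_preimage hU.isCompact)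
  haveI : Finite W := hW
  have hle : ∀ w : W, (w.1.1 : X.Opens) ≤ f ⁻¹ᵁ U := fun w => by
    rw [hcov]; exact le_biSup (fun i : X.affineOpens => i.1) w.2
  letI : ∀ w : W, Algebra R Γ(X, w.1.1) := fun w => (f.appLE U w.1.1 (hle w)).hom.toAlgebra
  have hc : ∀ w : W, w.1.2.fromSpec ≫ f =
      Spec.map (CommRingCat.ofHom (algebraMap R Γ(X, w.1.1))) ≫ hU.fromSpec :=
    fun w => (hU.SpecMap_appLE_fromSpec f w.1.2 (hle w)).symm
  have hg : Spec.map (CommRingCat.ofHom (algebraMap R V)) ≫ hU.fromSpec = g := hφ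
  -- no chart contains a lift
  have hno : ∀ w : W, ∃ A₀ : Subalgebra R V, A₀.FG ∧ ∀ A : Subalgebra R V, A₀ ≤ A →
      ∀ P P' : Ideal (A ⊗[R] Γ(X, w.1.1)), P.IsPrime → P'.IsPrime → P' ≤ P →
      P.comap (Algebra.TensorProduct.includeLeftRingHom : A →+* A ⊗[R] Γ(X, w.1.1)) =
        (maximalIdeal V).comap A.val.toRingHom →
      P'.comap (Algebra.TensorProduct.includeLeftRingHom : A →+* A ⊗[R] Γ(X, w.1.1)) =
        (⊥ : Ideal V).comap A.val.toRingHom → False := fun w => by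
    refine exists_fg_of_no_pair fun P P' hP hP' hle' hc₁ hc₂ => hlift ?_
    have hsq := (isPullback_SpecMap_of_isPushout _ _ _ _
      (CommRingCat.isPushout_tensorProduct R V Γ(X, w.1.1))).w
    let l : Spec (CommRingCat.of (V ⊗[R] Γ(X, w.1.1))) ⟶ pullback f g := pullback.lift
      (Spec.map (CommRingCat.ofHom Algebra.TensorProduct.includeRight.toRingHom) ≫ w.1.2.fromSpec)
      (Spec.map (CommRingCat.ofHom Algebra.TensorProduct.includeLeftRingHom)) (by
        rw [Category.assoc, hc, ← hg, reassoc_of% hsq])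
    let p : Spec (CommRingCat.of (V ⊗[R] Γ(X, w.1.1))) :=
      (⟨P, hP⟩ : PrimeSpectrum (V ⊗[R] Γ(X, w.1.1)))
    let p' : Spec (CommRingCat.of (V ⊗[R] Γ(X, w.1.1))) :=
      (⟨P', hP'⟩ : PrimeSpectrum (V ⊗[R] Γ(X, w.1.1)))
    refine ⟨l p, l p', ?_, ?_, ?_⟩
    · exact ((PrimeSpectrum.le_iff_specializes
        (p' : PrimeSpectrum (V ⊗[R] Γ(X, w.1.1))) p).1 hle').map l.continuous
    · rw [← Scheme.Hom.comp_apply, pullback.lift_snd]
      exact PrimeSpectrum.ext hc₁
    · rw [← Scheme.Hom.comp_apply, pullback.lift_snd]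
      exact PrimeSpectrum.ext hc₂
  choose A₀ hA₀ hno' using hno
  haveI := Fintype.ofFinite W
  let A := Finset.univ.sup A₀
  have hA : A.FG := Finset.sup_induction Subalgebra.fg_bot (fun _ h₁ _ h₂ => h₁.sup h₂)
    (fun w _ => hA₀ w)
  obtain ⟨z', z, hzz, hz, hz'⟩ := H R V hU.fromSpec inferInstance A hA
  let gA := Spec.map (CommRingCat.ofHom (algebraMap R A)) ≫ hU.fromSpec
  have hmem : pullback.fst f gA z ∈ f ⁻¹ᵁ U := by
    change f (pullback.fst f gA z) ∈ U
    rw [← Scheme.Hom.comp_apply, pullback.condition, Scheme.Hom.comp_apply]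
    exact hU.range_fromSpec.le ⟨_, rfl⟩
  rw [hcov] at hmem
  obtain ⟨w, hw, hzw⟩ : ∃ w ∈ W, pullback.fst f gA z ∈ w.1 := by
    simpa [TopologicalSpace.Opens.mem_iSup] using hmem
  obtain ⟨v', v, hvv, hv', hv⟩ := exists_pair_tensor f (R := R) (A := A)
    (B := Γ(X, (⟨w, hw⟩ : W).1.1)) hU.fromSpec (⟨w, hw⟩ : W).1.2.fromSpec (hc ⟨w, hw⟩)
    z' z hzz (by rw [IsAffineOpen.range_fromSpec]; exact hzw)
  rw [hz] at hv
  rw [hz'] at hv'
  exact hno' ⟨w, hw⟩ A (Finset.le_sup (Finset.mem_univ _)) v.asIdeal v'.asIdeal v.2 v'.2 hvv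
    (congrArg PrimeSpectrum.asIdeal hv) (congrArg PrimeSpectrum.asIdeal hv')

end Geom

end Groth.Agent.SubtrLib
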